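import Groth.Prelude.Def_AgMod
import Groth.Agent.AgPol.K814.MumHom
import Groth.Agent.AgPol.K814.Graph
import Groth.Agent.Desc.K390.PnSec

/-!
# Core families of polarised abelian schemes with level structure

The cluster S14158 / S14157 works with *core families* `K117.Ag.Core T g` over an `S`-scheme `T`:
an abelian scheme `X`, the class `c = (1, lam)^* P` in `Pic X` of a polarisation `lam`, and sections `σ`.

* `IsPolCl A d c` : `c = (1, lam)^* P` for a dual `(At, φ)`, its Poincaré class `P` and a polarisation `lam` of degree `d ^ 2`;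
* `Core`, `Core.pull`, `Core.ok`, `Core.r`, `CoreP` : the moduli problem of core families;
* `ofFam` : the core family of an admissible family of `AgPol.Agdn`;
* `tp` : the torsion points `∏ σ i ^ a i`;
* `IsPt`, `IsStd` : points of the absolute projective space, the standard frame points;
* `NormEmb` : the morphism to projective space given by `3 c`, normalised by a frame of torsion points.
-/

set_option autoImplicit false
universe u

open CategoryTheory Limits MonoidalCategory CartesianMonoidalCategory AlgebraicGeometry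
open scoped MonObj

namespace K117.Ag

open Groth.Agent.Grpsch.PicGrp Groth.Agent.Fga.RigGrp K732.PicZero K732.Prim K732.Dual

noncomputable section

/-- Absolute projective space. -/
abbrev PZ (m : ℕ) : Scheme.{u} := CohB1.ProjSpace m (ULift.{u} ℤ)

/-- The class of `O(1)`. -/
def o1 (m : ℕ) : Pic (PZ.{u} m) :=
  mk (Twist.twistProjSpace m (ULift.{u} ℤ) 1) (K390.PnSec.isInvertible_O1 m (ULift.{u} ℤ))

/-- The base `Spec ℤ`. -/
abbrev SZ : Scheme.{u} := Spec (CommRingCat.of (ULift.{u} ℤ))

section pol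

variable {S : Scheme.{u}}

/-- `c = (1, lam)^* P` for a polarisation `lam` of degree `d ^ 2`. -/
def IsPolCl (A : Over S) [GrpObj A] (d : ℕ) (c : Pic A.left) : Prop :=
  ∃ (At : Over S) (_ : GrpObj At) (_ : IsCommMonObj At) (φ : AgPol.DualMap A At)
    (ξ : Pic (PicF.XT A.hom At)) (lam : A ⟶ At),
    AbDual.IsDualAV Scheme.fppfPrecoverage A At φ ∧ ξ ∈ pz A.hom At ∧ ξ ∈ rg A At ∧ cm φ ξ = 𝟙 At ∧
      AgPol.IsPolarization A At φ lam ∧ AgPol.HasDegSq lam d ∧ c = ev (𝟙 A) lam ξ

end pol

section core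

variable {S : Scheme.{u}}

/-- Core families. -/
structure Core (T : Over S) (g : ℕ) : Type (u + 1) where
  /-- the abelian scheme -/
  X : Over T.left
  /-- its group structure -/
  grp : GrpObj X
  /-- the class `(1, lam)^* P` -/
  c : Pic X.left
  /-- the sections -/
  σ : Fin (2 * g) → (𝟙_ (Over T.left) ⟶ X)

attribute [instance] Core.grp

namespace Core

variable {T T' : Over S} {g : ℕ}

/-- Base change. -/
def pull (k : T' ⟶ T) (x : Core T g) : Core T' g where
  X := Red.bc k.left x.X
  grp := inferInstance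
  c := Groth.Agent.Grpsch.PicGrp.pull (pullback.fst x.X.hom k.left) x.c
  σ := fun i => AgPol.Fam.pullSec k.left (x.σ i)

/-- Admissible core families. -/
structure ok (g d n : ℕ) (T : Over S) (x : Core T g) : Prop where
  ab : AgPol.IsAbSch x.X g
  comm : IsCommMonObj x.X
  rig : Groth.Agent.Grpsch.PicGrp.pull (η[x.X] : 𝟙_ (Over T.left) ⟶ x.X).left x.c = 1
  pol : IsPolCl x.X d x.c
  level : AgPol.IsLevelStr x.X g n x.σ

/-- Isomorphic core families. -/
def r (T : Over S) (x y : Core T g) : Prop :=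
  ∃ (e : x.X ≅ y.X), IsMonHom e.hom ∧ Groth.Agent.Grpsch.PicGrp.pull e.hom.left y.c = x.c ∧
    ∀ i, x.σ i ≫ e.hom = y.σ i

end Core

/-- The moduli problem of core families. -/
def CoreP (S : Scheme.{u}) (g d n : ℕ) : ModFun.Problem.{u + 1} S where
  Fam T := Core T g
  pull k x := x.pull k
  ok := Core.ok g d n
  r := Core.r

/-- `z` is the core of the family `x`. -/
def IsCoreOf {T : Over S} {g : ℕ} (x : AgPol.Fam T g) (z : Core T g) : Prop :=
  letI := x.grp
  letI := x.grpt
  ∃ ξ : Pic (PicF.XT x.X.hom x.Xt), ξ ∈ pz x.X.hom x.Xt ∧ ξ ∈ rg x.X x.Xt ∧ cm x.φ ξ = 𝟙 x.Xt ∧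
    z = ⟨x.X, x.grp, ev (𝟙 x.X) x.lam ξ, x.σ⟩

end core

section tors

variable {S : Scheme.{u}}

/-- The torsion point `∏ σ i ^ a i`. -/
def tp {g n : ℕ} (X : Over S) [GrpObj X] (σ : Fin (2 * g) → (𝟙_ (Over S) ⟶ X)) (a : Fin (2 * g) → Fin n) :
    𝟙_ (Over S) ⟶ X :=
  (List.ofFn fun i => σ i ^ (a i : ℕ)).prod

end tors

section frame

/-- The morphism `r` is the point of projective space with coordinates `v`. -/
def IsPt {T : Scheme.{u}} {m : ℕ} (r : T ⟶ PZ.{u} m) (v : Fin (m + 1) → Γ(T, ⊤)) : Prop :=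
  K390.PnSec.GivenBy r (Coh.structureModule T) (fun i => (v i : Γ(Coh.structureModule T, ⊤)))

/-- The coordinates of the standard frame points: the basis vectors and the sum of them. -/
def stdv (R : Type*) [CommRing R] (m : ℕ) (k : Fin (m + 2)) : Fin (m + 1) → R :=
  if h : (k : ℕ) < m + 1 then Pi.single ⟨k, h⟩ 1 else fun _ => 1

/-- The `k`-th standard frame point. -/
def IsStd {T : Scheme.{u}} {m : ℕ} (k : Fin (m + 2)) (r : T ⟶ PZ.{u} m) : Prop :=
  IsPt r (stdv Γ(T, ⊤) m k)

/-- `r` is the morphism to projective space given by (a twist from the base of) `3 c`, mapping the torsion points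
`I k` to the standard frame. -/
structure NormEmb {S : Scheme.{u}} {g n m : ℕ} (X : Over S) [GrpObj X] (c : Pic X.left)
    (σ : Fin (2 * g) → (𝟙_ (Over S) ⟶ X)) (I : Fin (m + 2) → (Fin (2 * g) → Fin n)) (r : X.left ⟶ PZ.{u} m) :
    Prop where
  cls : ∃ N : Pic S, pull r (o1 m) = c ^ 3 * pull X.hom N
  pts : ∀ k, IsStd k ((tp X σ (I k)).left ≫ r)

/-- Core families with a frame. -/
def Framed {S : Scheme.{u}} {g n m : ℕ} (I : Fin (m + 2) → (Fin (2 * g) → Fin n)) (T : Over S) (x : Core T g) :
    Prop := ∃ r, NormEmb x.X x.c x.σ I r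

end frame

end

end K117.Ag
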