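import Groth.Agent.AgPol.K117.NhdCore
import Groth.Agent.AgPol.K272.Uniq

/-!
# NHD: a frame at a geometric point extends to a neighbourhood
-/

set_option autoImplicit false
universe u

open CategoryTheory CategoryTheory.Limits MonoidalCategory CartesianMonoidalCategory AlgebraicGeometry Opposite
  TopologicalSpace
open scoped MonObj

namespace K117.Nhd

open K117.Ag Groth.Agent.Fdesc.LocGen K390.PnSec K272.Fr K792.SecBC
open Groth.Agent.Grpsch.PicGrp hiding ev

/-- Finitely many classes are simultaneously trivial near a point. -/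
theorem exists_nhd_triv_finite {X : Scheme.{u}} {κ : Type} [Finite κ] (c : κ → Pic X) (x : X) :
    ∃ U : X.Opens, x ∈ U ∧ ∀ k, ∀ {Y : Scheme.{u}} (f : Y ⟶ X), f ⁻¹ᵁ U = ⊤ → pull f (c k) = 1 := by
  choose U hx hU using fun k => exists_nhd_triv (c k) x
  refine ⟨⟨⋂ k, (U k : Set X), isOpen_iInter_of_finite fun k => (U k).isOpen⟩, ?_, fun k Y f hf => ?_⟩
  · exact Set.mem_iInter.2 hx
  · refine hU k f ?_
    rw [eq_top_iff] at hf ⊢
    exact fun y hy => Set.mem_iInter.1 (hf hy) k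

/-- A generator of an invertible module whose class is trivial. -/
theorem exists_gen_of_mk_eq_one {X : Scheme.{u}} {L : X.Modules} (hL : PicF.IsInvertible L) (h : mk L hL = 1) :
    ∃ e : Γ(L, ⊤), IsGen e := by
  obtain ⟨τ⟩ := (mk_eq_one_iff hL).1 h
  exact ⟨τ.inv.app ⊤ (one ⊤), (isGen_one ⊤).app τ.inv⟩

section aff

variable {A : Type u} [CommRing A] {X : Scheme.{u}} [X.Over (Spec (CommRingCat.of A))] {L : X.Modules}
  [IsProper (X ↘ Spec (CommRingCat.of A))] [Flat (X ↘ Spec (CommRingCat.of A))]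
  [LocallyOfFinitePresentation (X ↘ Spec (CommRingCat.of A))]
  {Ω : Type u} [Field Ω] [Algebra A Ω] {X' : Scheme.{u}} [X'.Over (Spec (CommRingCat.of Ω))] {π : X' ⟶ X}

omit [IsProper (X ↘ Spec (CommRingCat.of A))] [Flat (X ↘ Spec (CommRingCat.of A))]
  [LocallyOfFinitePresentation (X ↘ Spec (CommRingCat.of A))] in
theorem sc_eq_appTop (a : A) : sc A X ⊤ a =
    (X ↘ Spec (CommRingCat.of A)).appTop ((Scheme.ΓSpecIso (CommRingCat.of A)).inv a) := by
  rw [sc_eq_appLE, Scheme.Hom.appTop, Scheme.Hom.app_eq_appLE]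
  rfl

/-- **The affine case.** -/
theorem aff (hL : PicF.IsInvertible L) {m : ℕ} (h : FibC (X ↘ Spec (CommRingCat.of A)) L (m + 1))
    {x : Fin (m + 2) → (Spec (CommRingCat.of A) ⟶ X)} (hx : ∀ k, x k ≫ (X ↘ Spec (CommRingCat.of A)) = 𝟙 _)
    {e : ∀ k, Γ((Scheme.Modules.pullback (x k)).obj L, ⊤)} (he : ∀ k, IsGen (e k))
    (sq : IsPullback π (X' ↘ Spec (CommRingCat.of Ω)) (X ↘ Spec (CommRingCat.of A))
      (Spec.map (CommRingCat.ofHom (algebraMap A Ω))))
    (hN : Module.finrank Ω (Coh.HH X' ((Scheme.Modules.pullback π).obj L) 0) = m + 1)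
    {x' : Fin (m + 2) → (Spec (CommRingCat.of Ω) ⟶ X')} (hx' : ∀ k, x' k ≫ (X' ↘ Spec (CommRingCat.of Ω)) = 𝟙 _)
    (w : ∀ k, x' k ≫ π = Spec.map (CommRingCat.ofHom (algebraMap A Ω)) ≫ x k)
    {r' : X' ⟶ PZ.{u} m} {s' : Fin (m + 1) → Γ((Scheme.Modules.pullback π).obj L, ⊤)} (hr' : GivenBy r' _ s')
    (hs' : ∀ k, IsStd k (x' k ≫ r')) :
    ∃ V : (Spec (CommRingCat.of A)).Opens, Set.range (Spec.map (CommRingCat.ofHom (algebraMap A Ω))) ⊆ V ∧
      ∀ {X₁ B₁ : Scheme.{u}} (f : X₁ ⟶ X) (q' : X₁ ⟶ B₁) (α : B₁ ⟶ Spec (CommRingCat.of A)),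
      f ≫ (X ↘ Spec (CommRingCat.of A)) = q' ≫ α → Set.range α ⊆ V → ∀ x₁ : Fin (m + 2) → (B₁ ⟶ X₁),
        (∀ k, x₁ k ≫ f = α ≫ x k) →
        ∃ r : X₁ ⟶ PZ.{u} m, pull r (o1 m) = pull f (mk L hL) ∧ ∀ k, IsStd k (x₁ k ≫ r) := by
  let f := X ↘ Spec (CommRingCat.of A)
  let τ := Spec.map (CommRingCat.ofHom (algebraMap A Ω))
  have hfx : ∀ k (a : Γ(Spec (CommRingCat.of A), ⊤)), (x k).appTop (f.appTop a) = a := by
    intro k a
    rw [← CommRingCat.comp_apply, ← Scheme.Hom.comp_appTop, hx k]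
    rfl
  choose e'' he'' hse using fun k => (isPt_comp_iff hr' (x' k) _).1 (hs' k)
  obtain ⟨a, s, c, ha, hc, hsa, hsc⟩ := exists_ev_lift hL h (fun k => hx k.castSucc) (fun k => he k.castSucc) sq hN
    (fun k => hx' k.castSucc) (fun k => w k.castSucc) s' (fun k => e'' k.castSucc) (fun k => he'' k.castSucc)
    (fun i k => by rw [hse, stdv_castSucc, Pi.single_comm])
  let a₀ : Γ(Spec (CommRingCat.of A), ⊤) := (Scheme.ΓSpecIso (CommRingCat.of A)).inv a
  have ha₀ : IsUnit (τ.appTop a₀) := by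
    have h2 : τ.appTop a₀ = (Scheme.ΓSpecIso (CommRingCat.of Ω)).inv (algebraMap A Ω a) :=
      congr($((Scheme.ΓSpecIso_inv_naturality (CommRingCat.ofHom (algebraMap A Ω))).symm) a)
    rw [h2]
    exact (IsUnit.mk0 _ ha).map (Scheme.ΓSpecIso (CommRingCat.of Ω)).inv.hom
  -- the values at the last point
  choose mu hmu using fun i => (he (Fin.last (m + 1))).exists_eq (pullTop (x (Fin.last (m + 1))) (s i))
  have hmuu : ∀ i, IsUnit (τ.appTop (mu i)) := by
    intro i
    obtain ⟨e₁, he₁, hv⟩ := exists_val_bc (he (Fin.last (m + 1))) hmu π τ (x' (Fin.last (m + 1))) (w _)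
    have h1 := hv i
    rw [hsc i] at h1
    have h2 : pullTop (x' (Fin.last (m + 1))) (sc Ω X' ⊤ (c i) • s' i) =
        (x' (Fin.last (m + 1))).appTop (sc Ω X' ⊤ (c i)) • pullTop (x' (Fin.last (m + 1))) (s' i) := pullSec_smul _ _ _
    rw [h2, appTop_sc _ (hx' _), hse, stdv_last, one_smul] at h1
    refine he₁.isUnit_of_smul ?_
    rw [← h1]
    exact (he'' _).unit_smul ((IsUnit.mk0 _ (hc i)).map (Scheme.ΓSpecIso (CommRingCat.of Ω)).inv.hom)
  let ν : Fin (m + 1) → Γ(Spec (CommRingCat.of A), ⊤) := fun i => ∏ j ∈ Finset.univ.erase i, mu j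
  let P : Γ(Spec (CommRingCat.of A), ⊤) := ∏ j, mu j
  have hνmu : ∀ i, mu i * ν i = P := fun i => Finset.mul_prod_erase _ _ (Finset.mem_univ i)
  have hνu : ∀ i, IsUnit (τ.appTop (ν i)) := by
    intro i
    rw [map_prod]
    exact IsUnit.prod_iff.2 fun j _ => hmuu j
  let σ : Fin (m + 1) → Γ(L, ⊤) := fun i => f.appTop (ν i) • s i
  let u : Fin (m + 2) → Γ(Spec (CommRingCat.of A), ⊤) :=
    Fin.lastCases (motive := fun _ => Γ(Spec (CommRingCat.of A), ⊤)) P fun k => ν k * a₀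
  have hul : u (Fin.last (m + 1)) = P := by simp only [u, Fin.lastCases_last]
  have huc : ∀ k : Fin (m + 1), u k.castSucc = ν k * a₀ := fun k => by simp only [u, Fin.lastCases_castSucc]
  have hσ : ∀ k i, pullTop (x k) (σ i) = (u k * stdv Γ(Spec (CommRingCat.of A), ⊤) m k i) • e k := by
    intro k i
    have h1 : pullTop (x k) (σ i) = (x k).appTop (f.appTop (ν i)) • pullTop (x k) (s i) := pullSec_smul _ _ _
    rw [h1, hfx]
    refine Fin.lastCases ?_ (fun k => ?_) k
    · rw [hmu i, smul_smul, stdv_last, mul_one]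
      congr 1
      rw [mul_comm, hνmu i, hul]
    · rw [hsa i k, smul_smul, stdv_castSucc]
      congr 1
      rw [huc k]
      by_cases hik : k = i
      · subst hik
        rw [Pi.single_eq_same, Pi.single_eq_same, mul_one]
      · rw [Pi.single_eq_of_ne hik, Pi.single_eq_of_ne (Ne.symm hik), map_zero, mul_zero, mul_zero]
  have hu : ∀ k, IsUnit (τ.appTop (u k)) := by
    intro k
    refine Fin.lastCases ?_ (fun k => ?_) k
    · rw [hul, map_prod]
      exact IsUnit.prod_univ_iff.2 hmuu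
    · rw [huc k, map_mul]
      exact (hνu k).mul ha₀
  -- generation on the fibre
  have hgen : ⨆ i, CohB1.genLocus _ (homOf (pullTop π (σ i))) = ⊤ := by
    have h1 : ∀ i, ∃ v : Γ(X', ⊤), IsUnit v ∧ pullTop π (σ i) = v • s' i := by
      intro i
      have h2 : pullTop π (σ i) = π.appTop (f.appTop (ν i)) • pullTop π (s i) := pullSec_smul _ _ _
      refine ⟨π.appTop (f.appTop (ν i)) * sc Ω X' ⊤ (c i), ?_, ?_⟩
      · refine IsUnit.mul ?_ ?_
        · have h3 : π.appTop (f.appTop (ν i)) = (X' ↘ Spec (CommRingCat.of Ω)).appTop (τ.appTop (ν i)) := by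
            rw [← CommRingCat.comp_apply, ← Scheme.Hom.comp_appTop, sq.w, Scheme.Hom.comp_appTop,
              CommRingCat.comp_apply]
          rw [h3]
          exact (hνu i).map _
        · rw [sc_eq_appTop]
          exact ((IsUnit.mk0 _ (hc i)).map (Scheme.ΓSpecIso (CommRingCat.of Ω)).inv.hom).map _
      · rw [h2, hsc i, smul_smul]
    choose v hv hvs using h1
    have hL' : PicF.IsInvertible ((Scheme.Modules.pullback π).obj L) := isInvertible_pullback π hL
    have hr₂ : ⨆ i, CohB1.genLocus _ (homOf (s' i)) = ⊤ := hr'.iSup_genLocus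
    rw [← hr₂]
    congr 1
    funext i
    rw [hvs i]
    obtain ⟨v', hv'⟩ := (hv i).exists_right_inv
    have h3 : v i • s' i = (smulIso (v i) v' hv' _).hom.app ⊤ (s' i) := (smulHom_app_top _ _ _).symm
    rw [h3]
    exact genLocus_app _ _
  exact core f L hL σ x e he u hσ τ hu π (X' ↘ Spec (CommRingCat.of Ω)) sq hgen

end aff

/-- **NHD** -/
theorem main (h14161 : K515.PolFinMain.Stmt14161.{u}) {g d n m : ℕ} (hm : m + 1 = 6 ^ g * d) :
    Node.Nhd.{u} g d n m := by
  intro S T x hT hx I Ω _ _ t hfr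
  obtain ⟨r', hr'⟩ := hfr
  obtain ⟨N', hN'⟩ := hr'.cls
  obtain ⟨U₁, ht₁, h₁⟩ := exists_nhd_triv_finite (fun k => pull (tp x.X x.σ (I k)).left (x.c ^ 3))
    (t (IsLocalRing.closedPoint Ω))
  obtain ⟨U, hU, htU, hUle⟩ := exists_isAffineOpen_mem_and_subset (x := t (IsLocalRing.closedPoint Ω)) (U := U₁) ht₁
  have hU₁ : (affH T hU).left ⁻¹ᵁ U₁ = ⊤ := preimage_eq_top (range_affH T hU).le hUle
  let A := Γ(T.left, U)
  let y : Core (affO T hU) g := x.pull (affH T hU)
  let iX : y.X.left.Over (Spec (CommRingCat.of A)) := ⟨y.X.hom⟩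
  have hab := K533.PolBC.isAbSch_bc (affH T hU).left hx.ab
  have i1 : IsProper (y.X.left ↘ Spec (CommRingCat.of A)) := hab.proper
  have i0 : Smooth (y.X.left ↘ Spec (CommRingCat.of A)) := hab.smooth
  have i2 : Flat (y.X.left ↘ Spec (CommRingCat.of A)) := inferInstance
  have i3 : LocallyOfFinitePresentation (y.X.left ↘ Spec (CommRingCat.of A)) := inferInstance
  have hcomm := hx.comm
  have hycomm : IsCommMonObj y.X := K533.PolBC.isCommMonObj_bc (affH T hU).left
  have hpol : IsPolCl y.X d y.c := K533.PolClBC.isPolCl_bc (affH T hU).left hx.ab hx.pol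
  obtain ⟨L, hL, hLc⟩ := exists_mk (y.c ^ 3)
  have hFib : FibC (y.X.left ↘ Spec (CommRingCat.of A)) L (m + 1) :=
    fibC h14161 y.X hm hab hycomm hpol hL 1 (by rw [map_one, mul_one]; exact hLc.symm)
  -- the point
  have hrange : Set.range t ⊆ Set.range hU.fromSpec := by
    rintro _ ⟨z, rfl⟩
    rw [Subsingleton.elim z (IsLocalRing.closedPoint Ω), hU.range_fromSpec]
    exact htU
  obtain ⟨t₁, ht₁'⟩ : ∃ t₁ : Spec (CommRingCat.of Ω) ⟶ Spec (CommRingCat.of A), t₁ ≫ hU.fromSpec = t :=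
    ⟨IsOpenImmersion.lift hU.fromSpec t hrange, IsOpenImmersion.lift_fac _ _ _⟩
  let iA : Algebra A Ω := (Spec.preimage t₁).hom.toAlgebra
  have hτ : Spec.map (CommRingCat.ofHom (algebraMap A Ω)) = t₁ := Spec.map_preimage t₁
  let X' : Scheme.{u} := (x.pull (Over.homMk t rfl : Over.mk (t ≫ T.hom) ⟶ T)).X.left
  let iX' : X'.Over (Spec (CommRingCat.of Ω)) := ⟨(x.pull (Over.homMk t rfl : Over.mk (t ≫ T.hom) ⟶ T)).X.hom⟩
  let π : X' ⟶ y.X.left := pullback.lift (pullback.fst x.X.hom t) (pullback.snd x.X.hom t ≫ t₁)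
    ((Category.assoc _ _ _).trans ((congrArg (pullback.snd x.X.hom t ≫ ·) ht₁').trans pullback.condition.symm)).symm
  have hπ₁ : π ≫ pullback.fst x.X.hom (affH T hU).left = pullback.fst x.X.hom t := pullback.lift_fst _ _ _
  have hπ₂ : π ≫ y.X.hom = pullback.snd x.X.hom t ≫ t₁ := pullback.lift_snd _ _ _
  have sq : IsPullback π (X' ↘ Spec (CommRingCat.of Ω)) (y.X.left ↘ Spec (CommRingCat.of A))
      (Spec.map (CommRingCat.ofHom (algebraMap A Ω))) := by
    rw [hτ]
    refine IsPullback.of_right (t := (IsPullback.of_hasPullback x.X.hom (affH T hU).left)) ?_ hπ₂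
    rw [hπ₁]
    have h2 : t₁ ≫ (affH T hU).left = t := ht₁'
    rw [h2]
    exact IsPullback.of_hasPullback x.X.hom t
  -- the points
  let x₀ : Fin (m + 2) → (Spec (CommRingCat.of A) ⟶ y.X.left) := fun k => (tp y.X y.σ (I k)).left
  have hx₀ : ∀ k, x₀ k ≫ (y.X.left ↘ Spec (CommRingCat.of A)) = 𝟙 _ := fun k => Over.w (tp y.X y.σ (I k))
  have hx₀f : ∀ k, x₀ k ≫ pullback.fst x.X.hom (affH T hU).left = (affH T hU).left ≫ (tp x.X x.σ (I k)).left := by
    intro k
    have e1 : tp y.X y.σ (I k) = secBc (affH T hU).left (tp x.X x.σ (I k)) := tp_bc (affH T hU).left x.X x.σ (I k)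
    change (tp y.X y.σ (I k)).left ≫ _ = _
    rw [e1]
    exact secBc_left_fst _ _
  let x' : Fin (m + 2) → (Spec (CommRingCat.of Ω) ⟶ X') := fun k =>
    (tp (x.pull (Over.homMk t rfl : Over.mk (t ≫ T.hom) ⟶ T)).X
      (x.pull (Over.homMk t rfl : Over.mk (t ≫ T.hom) ⟶ T)).σ (I k)).left
  have hx' : ∀ k, x' k ≫ (X' ↘ Spec (CommRingCat.of Ω)) = 𝟙 _ := fun k => Over.w (tp
    (x.pull (Over.homMk t rfl : Over.mk (t ≫ T.hom) ⟶ T)).X
      (x.pull (Over.homMk t rfl : Over.mk (t ≫ T.hom) ⟶ T)).σ (I k))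
  have hx'f : ∀ k, x' k ≫ pullback.fst x.X.hom t = t ≫ (tp x.X x.σ (I k)).left := by
    intro k
    have e1 : tp (x.pull (Over.homMk t rfl : Over.mk (t ≫ T.hom) ⟶ T)).X
      (x.pull (Over.homMk t rfl : Over.mk (t ≫ T.hom) ⟶ T)).σ (I k) = secBc t (tp x.X x.σ (I k)) :=
      tp_bc t x.X x.σ (I k)
    change (tp (x.pull (Over.homMk t rfl : Over.mk (t ≫ T.hom) ⟶ T)).X
      (x.pull (Over.homMk t rfl : Over.mk (t ≫ T.hom) ⟶ T)).σ (I k)).left ≫ _ = _
    rw [e1]
    exact secBc_left_fst _ _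
  have w : ∀ k, x' k ≫ π = Spec.map (CommRingCat.ofHom (algebraMap A Ω)) ≫ x₀ k := by
    intro k
    rw [hτ]
    refine pullback.hom_ext ?_ ?_
    · refine (Category.assoc _ _ _).trans ((congrArg (x' k ≫ ·) hπ₁).trans ((hx'f k).trans ?_))
      refine Eq.trans ?_ (Category.assoc _ _ _).symm
      refine Eq.trans ?_ (congrArg (t₁ ≫ ·) (hx₀f k)).symm
      refine Eq.trans ?_ (Category.assoc _ _ _)
      exact congrArg (· ≫ (tp x.X x.σ (I k)).left) ht₁'.symm
    · refine (Category.assoc _ _ _).trans ((congrArg (x' k ≫ ·) hπ₂).trans ?_)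
      refine (Category.assoc _ _ _).symm.trans ((congrArg (· ≫ t₁) (hx' k)).trans ?_)
      refine Eq.trans ?_ (Category.assoc _ _ _).symm
      refine Eq.trans ?_ (congrArg (t₁ ≫ ·) (hx₀ k)).symm
      rw [Category.id_comp, Category.comp_id]
  -- the generators
  have hgen : ∀ k, ∃ e : Γ((Scheme.Modules.pullback (x₀ k)).obj L, ⊤), IsGen e := by
    intro k
    refine exists_gen_of_mk_eq_one (isInvertible_pullback _ hL) ?_
    rw [← pull_mk (x₀ k) hL]
    have e1 : y.c ^ 3 = pull (pullback.fst x.X.hom (affH T hU).left) (x.c ^ 3) := (map_pow _ _ _).symm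
    refine (congrArg (pull (x₀ k)) (hLc.symm.trans e1)).trans ?_
    refine (pull_comp _ _ _).symm.trans ?_
    refine (congrArg (fun f => pull f (x.c ^ 3)) (hx₀f k)).trans ?_
    refine (pull_comp _ _ _).trans ?_
    exact h₁ k _ hU₁
  choose e he using hgen
  -- the morphism on the fibre
  have hcl : mk ((Scheme.Modules.pullback π).obj L) (isInvertible_pullback π hL) =
      pull (pullback.fst x.X.hom t) x.c ^ 3 := by
    rw [← pull_mk π hL]
    refine (congrArg (pull π) hLc.symm).trans ?_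
    refine (map_pow _ _ _).trans ?_
    exact congrArg (· ^ 3) ((pull_comp _ _ _).symm.trans (congrArg (fun f => pull f x.c) hπ₁))
  have hmk : pull r' (o1 m) = mk ((Scheme.Modules.pullback π).obj L) (isInvertible_pullback π hL) := by
    rw [hN', hcl]
    have e3 : N' = 1 := pic_spec_local Ω N'
    rw [e3, map_one, mul_one]
    rfl
  have hrk : Module.finrank Ω (Coh.HH X' ((Scheme.Modules.pullback π).obj L) 0) = m + 1 := by
    have h3 := (K515.RankPol.rank h14161 (Red.bc t x.X) g d (K533.PolBC.isAbSch_bc t hx.ab)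
      (K533.PolClBC.isPolCl_bc t hx.ab hx.pol) 3 (by norm_num) ((Scheme.Modules.pullback π).obj L)
      (isInvertible_pullback π hL) hcl).2
    rw [hm]
    exact h3
  obtain ⟨τ⟩ := (mk_eq_iff (isInvertible_pullback _ (isInvertible_O1 m Z.{u})) _).1 ((pull_mk _ _).symm.trans hmk)
  have hgiv := (GivenBy.refl r').of_iso τ
  obtain ⟨V, hV, hVr⟩ := aff (A := A) (X := y.X.left) hL hFib hx₀ he sq hrk hx' w hgiv hr'.pts
  rw [hτ] at hV
  -- the neighbourhood
  let W : T.left.Opens := hU.fromSpec ''ᵁ V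
  have hW : Set.range W.ι ⊆ Set.range hU.fromSpec := by
    rw [Scheme.Opens.range_ι]
    exact Set.image_subset_range _ _
  let α : W.toScheme ⟶ Spec (CommRingCat.of A) := IsOpenImmersion.lift hU.fromSpec W.ι hW
  have hα : α ≫ hU.fromSpec = W.ι := IsOpenImmersion.lift_fac _ _ _
  have hαV : Set.range α ⊆ V := by
    rintro _ ⟨z, rfl⟩
    obtain ⟨v, hv, hvz⟩ := z.2
    have h3 : hU.fromSpec (α z) = hU.fromSpec v := by
      rw [← Scheme.Hom.comp_apply, hα]
      exact hvz.symm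
    rw [hU.fromSpec.isOpenEmbedding.injective h3]
    exact hv
  refine ⟨W, ?_, ?_⟩
  · rintro _ ⟨z, rfl⟩
    refine ⟨t₁ z, hV ⟨z, rfl⟩, ?_⟩
    have h3 : (t₁ ≫ hU.fromSpec) z = t z := by rw [ht₁']
    exact h3
  · let f : (x.pull (resH T W)).X.left ⟶ y.X.left := pullback.lift (pullback.fst x.X.hom W.ι)
      (pullback.snd x.X.hom W.ι ≫ α)
      ((Category.assoc _ _ _).trans ((congrArg (pullback.snd x.X.hom W.ι ≫ ·) hα).trans pullback.condition.symm)).symm
    have hf₁ : f ≫ pullback.fst x.X.hom (affH T hU).left = pullback.fst x.X.hom W.ι := pullback.lift_fst _ _ _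
    have hf₂ : f ≫ y.X.hom = pullback.snd x.X.hom W.ι ≫ α := pullback.lift_snd _ _ _
    let x₁ : Fin (m + 2) → (W.toScheme ⟶ (x.pull (resH T W)).X.left) := fun k =>
      (tp (x.pull (resH T W)).X (x.pull (resH T W)).σ (I k)).left
    have hx₁ : ∀ k, x₁ k ≫ pullback.snd x.X.hom W.ι = 𝟙 _ := fun k =>
      Over.w (tp (x.pull (resH T W)).X (x.pull (resH T W)).σ (I k))
    have hx₁f : ∀ k, x₁ k ≫ pullback.fst x.X.hom W.ι = W.ι ≫ (tp x.X x.σ (I k)).left := by
      intro k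
      have e1 : tp (x.pull (resH T W)).X (x.pull (resH T W)).σ (I k) = secBc W.ι (tp x.X x.σ (I k)) :=
        tp_bc W.ι x.X x.σ (I k)
      change (tp (x.pull (resH T W)).X (x.pull (resH T W)).σ (I k)).left ≫ _ = _
      rw [e1]
      exact secBc_left_fst _ _
    have w₁ : ∀ k, x₁ k ≫ f = α ≫ x₀ k := by
      intro k
      refine pullback.hom_ext ?_ ?_
      · refine (Category.assoc _ _ _).trans ((congrArg (x₁ k ≫ ·) hf₁).trans ((hx₁f k).trans ?_))
        refine Eq.trans ?_ (Category.assoc _ _ _).symm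
        refine Eq.trans ?_ (congrArg (α ≫ ·) (hx₀f k)).symm
        refine Eq.trans ?_ (Category.assoc _ _ _)
        exact congrArg (· ≫ (tp x.X x.σ (I k)).left) hα.symm
      · refine (Category.assoc _ _ _).trans ((congrArg (x₁ k ≫ ·) hf₂).trans ?_)
        refine (Category.assoc _ _ _).symm.trans ((congrArg (· ≫ α) (hx₁ k)).trans ?_)
        refine Eq.trans ?_ (Category.assoc _ _ _).symm
        refine Eq.trans ?_ (congrArg (α ≫ ·) (hx₀ k)).symm
        rw [Category.id_comp, Category.comp_id]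
    obtain ⟨r, hr, hrs⟩ := hVr f (pullback.snd x.X.hom W.ι) α hf₂ hαV x₁ w₁
    refine ⟨r, ⟨1, ?_⟩, hrs⟩
    rw [map_one, mul_one, hr]
    refine (congrArg (pull f) hLc.symm).trans ?_
    refine (map_pow _ _ _).trans ?_
    exact congrArg (· ^ 3) ((pull_comp _ _ _).symm.trans (congrArg (fun f => pull f x.c) hf₁))

end K117.Nhd
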