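import Groth.Agent.AgPol.K117.Nodes
import Groth.Agent.AgPol.K438.FamEx
import Groth.Agent.AgPol.K814.DualNode
import Groth.Agent.S14161

/-!
# Non-emptiness of the moduli problem over algebraically closed fields
-/

set_option autoImplicit false
universe u
open CategoryTheory CategoryTheory.Limits AlgebraicGeometry MonoidalCategory CartesianMonoidalCategory
  MonObj

namespace K117.NodeNE

/-- Existence of duals over an algebraically closed field. -/
theorem exDual : K438.NE.ExDual.{u} := by
  intro Ω _ _ A _ _ g hA L hL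
  obtain ⟨At, i1, i2, φ, ξ, -, h, -⟩ := K814.DualNode.exists_dual (A := A) hA hL.1
    (Groth.Agent.Ega2.RelAmp.isRelAmple_iff_isAmple.2 hL)
  exact ⟨At, i1, i2, φ, h⟩

/-- The degree of the homomorphism of an ample module, over an algebraically closed field. -/
theorem degSq : K438.NE.DegSq.{u} := by
  intro Ω _ _ A At _ _ _ _ g hA hproj φ hdual L hL hrel lam hlam r hr
  exact Groth.Agent.S14161.result _ A At g hA hproj φ hdual L hL hrel lam hlam r hr

theorem main {g d n : ℕ} (hg : 1 ≤ g) (hd : 1 ≤ d) : K117.Ag.Node.NonEmpty.{u} g d n := by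
  intro Ω _ _ t hn
  obtain ⟨F, hF, -⟩ := K438.NE.exists_fam exDual degSq g d n hg hd Ω t hn
  exact ⟨F, hF⟩

end K117.NodeNE
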