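import Groth.Agent.AgPol.K117.Defs

import Groth.Prelude.Def_RelProj
import Groth.Prelude.Def_SGA1
import Groth.Prelude.Def_FlatMod2
import Mathlib.RingTheory.DiscreteValuationRing.Basic

/-!
# The nodes of the proof of S14158 / S14157 as named propositions

See the board (ns AgPol) and table jobs.  Every node is a `Prop`; prove it in your own file.
Test schemes are locally Noetherian.  `3 * c` is used for the projective embedding.
The nodes with parameters are to be proved under (some of) the standing hypotheses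
`1 ≤ g`, `1 ≤ d`, `m + 1 = 6 ^ g * d`, `(6 ^ g * d) ^ 2 * g ! < n ^ 2` (so `7 ≤ n`).
-/

set_option autoImplicit false
universe u v

open CategoryTheory Limits MonoidalCategory CartesianMonoidalCategory AlgebraicGeometry
open scoped MonObj

namespace K117.Ag

open Groth.Agent.Grpsch.PicGrp

noncomputable section

/-- Locally Noetherian test schemes. -/
abbrev LN (S : Scheme.{u}) : ObjectProperty (Over S) := fun T => IsLocallyNoetherian T.left

/-- An open subscheme of the base. -/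
abbrev resO {S : Scheme.{u}} (T : Over S) (U : T.left.Opens) : Over S := Over.mk (U.ι ≫ T.hom)

/-- Its inclusion. -/
abbrev resH {S : Scheme.{u}} (T : Over S) (U : T.left.Opens) : resO T U ⟶ T := Over.homMk U.ι rfl

/-- Inclusions between open subschemes of the base. -/
abbrev resL {S : Scheme.{u}} (T : Over S) {V U : T.left.Opens} (h : V ≤ U) : resO T V ⟶ resO T U :=
  Over.homMk (T.left.homOfLE h) (by simp)

/-- Base change of a section. -/
def secBc {T T' : Scheme.{u}} (f : T' ⟶ T) {X : Over T} (s : 𝟙_ (Over T) ⟶ X) : 𝟙_ (Over T') ⟶ Red.bc f X :=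
  AgPol.Fam.pullSec (T := Over.mk (𝟙 T)) (T' := Over.mk f) f s

/-- The generic point of the spectrum of a domain. -/
abbrev genH {S : Scheme.{u}} (R : Type u) [CommRing R] [IsDomain R] (t : Spec (CommRingCat.of R) ⟶ S) :
    Over.mk (Spec.map (CommRingCat.ofHom (algebraMap R (FractionRing R))) ≫ t) ⟶ Over.mk t :=
  Over.homMk (Spec.map (CommRingCat.ofHom (algebraMap R (FractionRing R)))) rfl

/-- Sheaf-like laws of a moduli problem on locally Noetherian test schemes. -/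
structure Laws {S : Scheme.{u}} (F : ModFun.Problem.{v} S) : Prop where
  refl : ∀ (T : Over S) (x : F.Fam T), F.ok T x → F.r T x x
  symm : ∀ (T : Over S) (x y : F.Fam T), F.ok T x → F.ok T y → F.r T x y → F.r T y x
  trans : ∀ (T : Over S) (x y z : F.Fam T), F.ok T x → F.ok T y → F.ok T z → F.r T x y → F.r T y z → F.r T x z
  pull_ok : ∀ {T T' : Over S} (k : T' ⟶ T) (x : F.Fam T), LN S T → LN S T' → F.ok T x → F.ok T' (F.pull k x)
  pull_r : ∀ {T T' : Over S} (k : T' ⟶ T) (x y : F.Fam T), LN S T → LN S T' → F.ok T x → F.ok T y → F.r T x y →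
    F.r T' (F.pull k x) (F.pull k y)
  pull_id : ∀ (T : Over S) (x : F.Fam T), LN S T → F.ok T x → F.r T (F.pull (𝟙 T) x) x
  pull_comp : ∀ {T T' T'' : Over S} (k : T' ⟶ T) (l : T'' ⟶ T') (x : F.Fam T), LN S T → LN S T' → LN S T'' →
    F.ok T x → F.r T'' (F.pull (l ≫ k) x) (F.pull l (F.pull k x))
  sep : ∀ (T : Over S) (x y : F.Fam T), LN S T → F.ok T x → F.ok T y →
    (∀ t : T.left, ∃ U : T.left.Opens, t ∈ U ∧ F.r _ (F.pull (resH T U) x) (F.pull (resH T U) y)) → F.r T x y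
  glue : ∀ (T : Over S), LN S T → ∀ {κ : Type u} (U : κ → T.left.Opens), (⨆ i, U i) = ⊤ →
    ∀ x : (∀ i, F.Fam (resO T (U i))), (∀ i, F.ok _ (x i)) →
      (∀ i j, F.r (resO T (U i ⊓ U j)) (F.pull (resL T inf_le_left) (x i)) (F.pull (resL T inf_le_right) (x j))) →
        ∃ y : F.Fam T, F.ok T y ∧ ∀ i, F.r _ (F.pull (resH T (U i)) y) (x i)

namespace Node

/-! ### Dual and core families -/

/-- **DUAL** -/
def Dual : Prop :=
  ∀ (S : Scheme.{u}) [IsLocallyNoetherian S] (A : Over S) [GrpObj A] [IsCommMonObj A] (g : ℕ),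
    AgPol.IsAbSch A g → ∀ L : A.left.Modules, RelAmple.IsRelAmple A.hom L →
      ∃ (At : Over S) (_ : GrpObj At) (_ : IsCommMonObj At) (φ : AgPol.DualMap A At),
        AbDual.IsDualAV Scheme.fppfPrecoverage A At φ ∧ AgPol.IsAbSch At g

/-- **AMP** the class of a polarisation is relatively ample. -/
def Amp : Prop :=
  ∀ (S : Scheme.{u}) [IsLocallyNoetherian S] (A : Over S) [GrpObj A] [IsCommMonObj A] (g d : ℕ),
    AgPol.IsAbSch A g → ∀ (L : A.left.Modules) (hL : PicF.IsInvertible L), IsPolCl A d (mk L hL) →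
      RelAmple.IsRelAmple A.hom L

/-- **FAMCORE** admissible families and admissible core families are the same thing. -/
structure FamCore (g d n : ℕ) : Prop where
  exists_core : ∀ {S : Scheme.{u}} (T : Over S) (x : AgPol.Fam T g), LN S T → AgPol.Fam.ok g d n T x →
    ∃ z : Core T g, IsCoreOf x z ∧ Core.ok g d n T z
  exists_fam : ∀ {S : Scheme.{u}} (T : Over S) (z : Core T g), LN S T → Core.ok g d n T z →
    ∃ x : AgPol.Fam T g, IsCoreOf x z ∧ AgPol.Fam.ok g d n T x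
  r_iff : ∀ {S : Scheme.{u}} (T : Over S) (x y : AgPol.Fam T g) (z w : Core T g), LN S T →
    AgPol.Fam.ok g d n T x → AgPol.Fam.ok g d n T y → IsCoreOf x z → IsCoreOf y w →
      (AgPol.Fam.r T x y ↔ Core.r T z w)
  pull : ∀ {S : Scheme.{u}} {T T' : Over S} (k : T' ⟶ T) (x : AgPol.Fam T g) (z : Core T g), LN S T → LN S T' →
    AgPol.Fam.ok g d n T x → IsCoreOf x z → ∃ z' : Core T' g, IsCoreOf (x.pull k) z' ∧ Core.r T' z' (z.pull k)
  pull_ok : ∀ {S : Scheme.{u}} {T T' : Over S} (k : T' ⟶ T) (x : AgPol.Fam T g), LN S T → LN S T' →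
    AgPol.Fam.ok g d n T x → AgPol.Fam.ok g d n T' (x.pull k)

/-! ### Frames -/

/-- **NHD** a frame at a geometric point extends to a neighbourhood. -/
def Nhd (g d n m : ℕ) : Prop :=
  ∀ {S : Scheme.{u}} (T : Over S) (x : Core T g), LN S T → Core.ok g d n T x →
    ∀ (I : Fin (m + 2) → (Fin (2 * g) → Fin n)) (Ω : Type u) [Field Ω] [IsAlgClosed Ω]
      (t : Spec (CommRingCat.of Ω) ⟶ T.left),
      Framed I _ (x.pull (Over.homMk t rfl : Over.mk (t ≫ T.hom) ⟶ T)) →
        ∃ U : T.left.Opens, Set.range t ⊆ U ∧ Framed I _ (x.pull (resH T U))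

/-- **CLOSED** a normalised morphism is a closed immersion. -/
def Closed (g d n m : ℕ) : Prop :=
  ∀ {S : Scheme.{u}} (T : Over S) (x : Core T g), LN S T → Core.ok g d n T x →
    ∀ (I : Fin (m + 2) → (Fin (2 * g) → Fin n)) (r : x.X.left ⟶ PZ.{u} m), NormEmb x.X x.c x.σ I r →
      IsClosedImmersion (K390.PnSec.liftP r x.X.hom)

/-- **UNIQ** the normalised morphism is unique. -/
def Uniq (g d n m : ℕ) : Prop :=
  ∀ {S : Scheme.{u}} (T : Over S) (x : Core T g), LN S T → Core.ok g d n T x →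
    ∀ (I : Fin (m + 2) → (Fin (2 * g) → Fin n)) (r r' : x.X.left ⟶ PZ.{u} m), NormEmb x.X x.c x.σ I r →
      NormEmb x.X x.c x.σ I r' → r = r'

/-- **NBC** normalised morphisms are stable under base change and isomorphism. -/
structure NormBc (g n m : ℕ) : Prop where
  bc : ∀ {S : Scheme.{u}} {T T' : Over S} (k : T' ⟶ T) (x : Core T g) (I : Fin (m + 2) → (Fin (2 * g) → Fin n))
    (r : x.X.left ⟶ PZ.{u} m), NormEmb x.X x.c x.σ I r →
      NormEmb (x.pull k).X (x.pull k).c (x.pull k).σ I (pullback.fst x.X.hom k.left ≫ r)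
  iso : ∀ {S : Scheme.{u}} {T : Over S} (x y : Core T g) (I : Fin (m + 2) → (Fin (2 * g) → Fin n))
    (r : y.X.left ⟶ PZ.{u} m) (e : x.X ≅ y.X), IsMonHom e.hom → pull e.hom.left y.c = x.c →
      (∀ i, x.σ i ≫ e.hom = y.σ i) → NormEmb y.X y.c y.σ I r → NormEmb x.X x.c x.σ I (e.hom.left ≫ r)

/-- **FRLOC** the existence of a frame is local on the base. -/
def FrLocal (g d n m : ℕ) : Prop :=
  ∀ {S : Scheme.{u}} (T : Over S) (x : Core T g), LN S T → Core.ok g d n T x →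
    ∀ (I : Fin (m + 2) → (Fin (2 * g) → Fin n)),
      (∀ t : T.left, ∃ U : T.left.Opens, t ∈ U ∧ Framed I _ (x.pull (resH T U))) → Framed I T x

/-- **FRAME** over an algebraically closed field there is a frame of torsion points. -/
def Frame (g d n m : ℕ) : Prop :=
  ∀ {S : Scheme.{u}} (Ω : Type u) [Field Ω] [IsAlgClosed Ω] (t : Spec (CommRingCat.of Ω) ⟶ S)
    (x : Core (Over.mk t) g), Core.ok g d n _ x → ∃ I : Fin (m + 2) → (Fin (2 * g) → Fin n), Framed I _ x

/-! ### Charts -/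

/-- `X ⟶ T` flat and closed in `P^m_T` with `dim H⁰(X_t, O(k)) = Φ(k)` for large `k` at all geometric points. -/
structure HilbGood (m : ℕ) (Φ : Polynomial ℚ) {X T : Scheme.{u}} (f : X ⟶ T) (r : X ⟶ PZ.{u} m) : Prop where
  closed : IsClosedImmersion (K390.PnSec.liftP r f)
  flat : Flat f
  fib : ∀ (Ω : Type u) [Field Ω] [IsAlgClosed Ω] (t : Spec (CommRingCat.of Ω) ⟶ T),
    letI : (pullback f t).Over (Spec (CommRingCat.of Ω)) := ⟨pullback.snd f t⟩
    ∀ᶠ k : ℕ in Filter.atTop, (Module.finrank Ω (Coh.HH (pullback f t)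
      ((Scheme.Modules.pullback (pullback.fst f t ≫ r)).obj (Twist.twistProjSpace m (ULift.{u} ℤ) k)) 0) : ℚ) =
        Φ.eval (k : ℚ)

/-- **HILB** the Hilbert scheme of `P^m` with a given Hilbert polynomial, absolute form. -/
def Hilb (m : ℕ) (Φ : Polynomial ℚ) : Prop :=
  ∃ (H X₀ : Scheme.{u}) (p : X₀ ⟶ H) (j : X₀ ⟶ PZ.{u} m), IsNoetherian H ∧ HilbGood m Φ p j ∧
    (∀ h : H ⟶ SZ.{u}, LocallyOfFiniteType h ∧ IsSeparated h) ∧
    ∀ (T X : Scheme.{u}) [IsLocallyNoetherian T] (f : X ⟶ T) (r : X ⟶ PZ.{u} m), HilbGood m Φ f r →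
      ∃! a : T ⟶ H, ∃ q : X ⟶ X₀, IsPullback q f p a ∧ q ≫ j = r

/-- **ABLOC** the locus where `(X, e)` is an abelian scheme of relative dimension `g` is open. -/
def AbLocus : Prop :=
  ∀ (T : Scheme.{u}) [IsLocallyNoetherian T] (X : Over T) (m : ℕ)
    (i : X ⟶ Over.mk (CohB1.ProjSpaceOver.toBase m T)) [IsClosedImmersion i.left] [Flat X.hom]
    (e : 𝟙_ (Over T) ⟶ X) (g : ℕ),
    ∃ U : T.Opens, ∀ (T' : Scheme.{u}) [IsLocallyNoetherian T'] (f : T' ⟶ T),
      (Set.range f ⊆ (U : Set T) ↔ AgPol.IsAbSch (Red.bc f X) g ∧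
        ∃ _ : GrpObj (Red.bc f X), η[Red.bc f X] = secBc f e)

/-- **LEVLOC** level structures: a locally closed condition. -/
def LevLocus : Prop :=
  ∀ (T : Scheme.{u}) [IsLocallyNoetherian T] (A : Over T) [GrpObj A] [IsCommMonObj A] (g n : ℕ), 1 ≤ g → 1 ≤ n →
    AgPol.IsAbSch A g → ∀ σ : Fin (2 * g) → (𝟙_ (Over T) ⟶ A),
    ∃ (Z : Scheme.{u}) (z : Z ⟶ T), IsImmersion z ∧ QuasiCompact z ∧
      ∀ (T' : Scheme.{u}) [IsLocallyNoetherian T'] (f : T' ⟶ T),
        (AgPol.IsLevelStr (Red.bc f A) g n (fun i => secBc f (σ i)) ↔ ∃ h : T' ⟶ Z, h ≫ z = f)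

/-- **POLLOC** "`L` is three times the class of a polarisation of degree `d ^ 2`" is a closed condition. -/
def PolLocus : Prop :=
  ∀ (T : Scheme.{u}) [IsLocallyNoetherian T] (A : Over T) [GrpObj A] [IsCommMonObj A] (g d : ℕ), 1 ≤ g → 1 ≤ d →
    AgPol.IsAbSch A g → ∀ (L : A.left.Modules) (hL : PicF.IsInvertible L), RelAmple.IsRelAmple A.hom L →
      FlatMod.IsFinLocFreeOfRank (6 ^ g * d) ((Coh.push A.hom).obj L) →
      pull (η[A] : 𝟙_ (Over T) ⟶ A).left (mk L hL) = 1 →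
    ∃ (Z : Scheme.{u}) (z : Z ⟶ T), IsClosedImmersion z ∧
      ∀ (T' : Scheme.{u}) [IsLocallyNoetherian T'] (f : T' ⟶ T),
        ((∃ c : Pic (Red.bc f A).left, pull (η[Red.bc f A] : 𝟙_ (Over T') ⟶ Red.bc f A).left c = 1 ∧
          IsPolCl (Red.bc f A) d c ∧ c ^ 3 = pull (pullback.fst A.hom f) (mk L hL)) ↔ ∃ h : T' ⟶ Z, h ≫ z = f)

/-- **POLUNIQ** a normalised polarisation class is determined by its cube. -/
def PolUniq : Prop :=
  ∀ (T : Scheme.{u}) [IsLocallyNoetherian T] (A : Over T) [GrpObj A] [IsCommMonObj A] (g d : ℕ),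
    AgPol.IsAbSch A g → ∀ c c' : Pic A.left, IsPolCl A d c → IsPolCl A d c' → c ^ 3 = c' ^ 3 → c = c'

/-- **CHART** the moduli scheme of core families with frame `I`. -/
def Chart (g d n m : ℕ) : Prop :=
  ∀ I : Fin (m + 2) → (Fin (2 * g) → Fin n), ∃ (M : Over SZ.{u}) (ξ : Core M g),
    IsNoetherian M.left ∧ LocallyOfFiniteType M.hom ∧
      ModFun.IsUnivFamily (LN _) ((CoreP SZ.{u} g d n).restrict (Framed I)) M ξ

/-! ### Gluing -/

/-- **LAWS** the stack laws of core families, when isomorphisms are unique. -/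
def CoreLaws (g d n : ℕ) : Prop := ∀ S : Scheme.{u}, Laws (CoreP S g d n)

/-- **GLUE** gluing universal families of open conditions. -/
def Glue : Prop :=
  ∀ (S : Scheme.{u}) (F : ModFun.Problem.{u + 1} S), Laws F →
    ∀ {κ : Type u} (Q : κ → ∀ T : Over S, F.Fam T → Prop),
      (∀ i (T : Over S) (x y : F.Fam T), LN S T → F.ok T x → F.ok T y → F.r T x y → Q i T x → Q i T y) →
      (∀ i (T T' : Over S) (k : T' ⟶ T) (x : F.Fam T), LN S T → LN S T' → F.ok T x → Q i T x →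
        Q i T' (F.pull k x)) →
      (∀ i (T : Over S) (x : F.Fam T), LN S T → F.ok T x → ∃ U : T.left.Opens, ∀ (T' : Over S) (k : T' ⟶ T),
        LN S T' → (Q i T' (F.pull k x) ↔ Set.range k.left ⊆ U)) →
      (∀ (T : Over S) (x : F.Fam T), LN S T → F.ok T x → ∀ t : T.left, ∃ (i : κ) (U : T.left.Opens), t ∈ U ∧
        Q i _ (F.pull (resH T U) x)) →
      ∀ (M : κ → Over S) (ξ : ∀ i, F.Fam (M i)), (∀ i, LN S (M i)) →
        (∀ i, ModFun.IsUnivFamily (LN S) (F.restrict (Q i)) (M i) (ξ i)) →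
      ∃ (N : Over S) (ζ : F.Fam N) (j : ∀ i, M i ⟶ N), LN S N ∧ ModFun.IsUnivFamily (LN S) F N ζ ∧
        (∀ i, IsOpenImmersion (j i).left) ∧ ∀ y : N.left, ∃ i, y ∈ Set.range (j i).left

/-! ### Separatedness and quasi-projectivity -/

/-- **SEP** isomorphisms extend over discrete valuation rings. -/
def SepDVR (g d n : ℕ) : Prop :=
  ∀ {S : Scheme.{u}} (R : Type u) [CommRing R] [IsDomain R] [IsDiscreteValuationRing R]
    (t : Spec (CommRingCat.of R) ⟶ S) (x y : Core (Over.mk t) g), Core.ok g d n _ x → Core.ok g d n _ y →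
    Core.r _ (x.pull (genH R t)) (y.pull (genH R t)) → Core.r _ x y

/-- **LEVCOV** adding level structure is a Galois covering. -/
def LevelCover : Prop :=
  ∀ {S : Scheme.{u}} (T : Over S) [IsLocallyNoetherian T.left] (g d n q : ℕ), 1 ≤ g → 1 ≤ n → 1 ≤ q →
    ∀ x : Core T g, Core.ok g d n T x → IsUnit ((n * q : ℕ) : Γ(T.left, ⊤)) →
    ∃ (W : Over S) (p : W ⟶ T) (G : Type u) (_ : Group G) (_ : Finite G) (ρ : G →* Aut W.left),
      IsFinite p.left ∧ Etale p.left ∧ Surjective p.left ∧ SGA1.IsQuot ρ p.left ∧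
      ∃ τ : Fin (2 * g) → (𝟙_ (Over W.left) ⟶ (x.pull p).X), AgPol.IsLevelStr (x.pull p).X g (n * q) τ ∧
        ∀ i, τ i ^ q = (x.pull p).σ i

/-- **TORSSEC** a non-zero section of the cube of an ample invertible module does not vanish at all `N`-torsion points,
`N` large. -/
def TorsSec : Prop :=
  ∀ (Ω : Type u) [Field Ω] [IsAlgClosed Ω] (A : Over (Spec (CommRingCat.of Ω))) [GrpObj A] [IsCommMonObj A]
    (g N : ℕ), 1 ≤ g → AgPol.IsAbSch A g → (N : Ω) ≠ 0 → ∀ (M L : A.left.Modules), CohB1.IsAmple M →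
      Nonempty (L ≅ CohB1.tensorPow M 3) →
      (letI : A.left.Over (Spec (CommRingCat.of Ω)) := ⟨A.hom⟩
       (Module.finrank Ω (Coh.HH A.left L 0)) ^ 2 * g.factorial < N ^ 2) →
      ∀ s : Γ(L, ⊤), s ≠ 0 → ∃ x : 𝟙_ (Over (Spec (CommRingCat.of Ω))) ⟶ A, x ^ N = 1 ∧
        Groth.Agent.Fdesc.LocGen.pullTop x.left s ≠ 0

/-- **QP** quasi-projectivity. -/
def QP (g d n : ℕ) : Prop :=
  ∀ (M : Over SZ.{u}) (ξ : Core M g), IsNoetherian M.left → LocallyOfFiniteType M.hom → IsSeparated M.hom →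
    Core.ok g d n M ξ →
    (∀ (Ω : Type u) [Field Ω] [IsAlgClosed Ω] (t : Spec (CommRingCat.of Ω) ⟶ SZ.{u}) (a b : Over.mk t ⟶ M),
      Core.r _ (ξ.pull a) (ξ.pull b) → a = b) →
    RelProj.IsQuasiProjective M.hom

/-- **NE** non-emptiness. -/
def NonEmpty (g d n : ℕ) : Prop :=
  ∀ (Ω : Type u) [Field Ω] [IsAlgClosed Ω] (t : Spec (CommRingCat.of Ω) ⟶ SZ.{u}), (n : Ω) ≠ 0 →
    ∃ x : AgPol.Fam (Over.mk t) g, AgPol.Fam.ok g d n _ x

end Node

end

end K117.Ag
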