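import Groth.Agent.RedSub.H672.MonoQP
import Groth.Agent.ZeroCyc.K755.SymMain
import Groth.Agent.RelProj.K823.DenseQP
import Groth.Agent.S13180
import Groth.Agent.S4414
import Groth.Agent.S2925

/-!
# Descent of quasi-projectivity from a quasi-finite map of a Galois cover

`M ⟶ S` separated of finite type over a Noetherian affine scheme, `p : W ⟶ M` a quotient of `W` by a finite group, and
`f : W ⟶ P` quasi-finite over `S` with `P` quasi-projective over `S`. Then `M` is quasi-projective over `S`.
-/

set_option autoImplicit false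

open CategoryTheory Limits AlgebraicGeometry

universe u

namespace K117.QPFin

/-- Quasi-finite and separated over a quasi-projective scheme over an affine scheme implies quasi-projective. -/
theorem isQuasiProjective_of_quasiFinite {S W P : Scheme.{u}} [IsAffine S] (a : P ⟶ S)
    (ha : RelProj.IsQuasiProjective a) (w : W ⟶ S) [LocallyOfFiniteType w] [QuasiCompact w] [IsSeparated w]
    (f : W ⟶ P) (hf : f ≫ a = w) [LocallyQuasiFinite f] : RelProj.IsQuasiProjective w := by
  have hS : ∃ M : S.Modules, CohB1.IsAmple M := Groth.Agent.CalgB.ProjField.exists_isAmple_of_isAffine S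
  obtain ⟨_, _, r, i, hi, hia⟩ := (Groth.Agent.S4414.result hS a).mp ha
  have h0 : (f ≫ i) ≫ CohB1.ProjSpaceOver.toBase r S = w := by rw [Category.assoc, hia, hf]
  have h1 : IsSeparated (f ≫ i) := by
    have : IsSeparated ((f ≫ i) ≫ CohB1.ProjSpaceOver.toBase r S) := by rw [h0]; infer_instance
    exact IsSeparated.of_comp (f ≫ i) (CohB1.ProjSpaceOver.toBase r S)
  have h2 : LocallyQuasiFinite (f ≫ i) := inferInstance
  obtain ⟨n, j, hj, hjw⟩ := Groth.Agent.RedSub.H672.MonoQP.exists_immersion_of_quasiFinite w (f ≫ i) h0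
  exact (Groth.Agent.S4414.result hS w).mpr ⟨inferInstance, inferInstance, n, j, hj, hjw⟩

/-- A quotient by a finite group of a quasi-projective scheme is quasi-projective. -/
theorem isQuasiProjective_of_isQuot {S W M : Scheme.{u}} [IsNoetherian S] (q : M ⟶ S) (p : W ⟶ M) {G : Type u}
    [Group G] [Finite G] (ρ : G →* Aut W) (hq : SGA1.IsQuot ρ p) (h : RelProj.IsQuasiProjective (p ≫ q)) :
    RelProj.IsQuasiProjective q := by
  obtain ⟨Y, q', h', hfac, hquot, hqp⟩ := Groth.Agent.S13180.result (p ≫ q) ρ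
    (fun σ => by rw [← Category.assoc]; exact congrArg (fun k => k ≫ q) (hq.inv σ)) h
  obtain ⟨m, hm, -⟩ := Groth.Agent.S2925.result ρ q' hquot M p hq.inv
  have hiso : IsIso m := K755.SymMain.isIso_of_isQuot hquot hq m hm
  have hmq : m ≫ q = h' := by
    refine (Groth.Agent.S2925.result ρ q' hquot S (p ≫ q)
      (fun σ => by rw [← Category.assoc]; exact congrArg (fun k => k ≫ q) (hq.inv σ))).unique ?_ hfac
    rw [← Category.assoc]
    exact congrArg (fun k => k ≫ q) hm
  have hq2 : q = inv m ≫ h' := by rw [← hmq, IsIso.inv_hom_id_assoc]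
  rw [hq2]
  exact K823.DenseQP.isQuasiProjective_of_embedding hqp (inv m) (inv m).isOpenEmbedding.isEmbedding

/-- **(q4)** of QP. -/
theorem main {S W M P : Scheme.{u}} [IsAffine S] [IsNoetherian S] (q : M ⟶ S) [LocallyOfFiniteType q]
    [QuasiCompact q] [IsSeparated q] (p : W ⟶ M) [IsFinite p] {G : Type u} [Group G] [Finite G] (ρ : G →* Aut W)
    (hq : SGA1.IsQuot ρ p) (a : P ⟶ S) (ha : RelProj.IsQuasiProjective a) (f : W ⟶ P) (hf : f ≫ a = p ≫ q)
    [LocallyQuasiFinite f] : RelProj.IsQuasiProjective q :=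
  isQuasiProjective_of_isQuot q p ρ hq (isQuasiProjective_of_quasiFinite a ha (p ≫ q) f hf)

/-- The same with a projective space. -/
theorem main_proj {S W M : Scheme.{u}} [IsAffine S] [IsNoetherian S] (q : M ⟶ S) [LocallyOfFiniteType q]
    [QuasiCompact q] [IsSeparated q] (p : W ⟶ M) [IsFinite p] {G : Type u} [Group G] [Finite G] (ρ : G →* Aut W)
    (hq : SGA1.IsQuot ρ p) (r : ℕ) (f : W ⟶ CohB1.ProjSpaceOver r S)
    (hf : f ≫ CohB1.ProjSpaceOver.toBase r S = p ≫ q) [LocallyQuasiFinite f] : RelProj.IsQuasiProjective q :=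
  main q p ρ hq (CohB1.ProjSpaceOver.toBase r S) ((Groth.Agent.S4414.result
    (Groth.Agent.CalgB.ProjField.exists_isAmple_of_isAffine S) _).mpr ⟨by
      have := Groth.Agent.Ega3B.ProjProper.isProper_toBase r S
      infer_instance, by
      have := Groth.Agent.Ega3B.ProjProper.isProper_toBase r S
      infer_instance, r, 𝟙 _, inferInstance, Category.id_comp _⟩) f hf

end K117.QPFin
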