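import Groth.Agent.AgPol.K117.Main
import Groth.Agent.AgPol.K117.NodeNE
import Groth.Agent.AgPol.K117.Nhd
import Groth.Agent.AgPol.K116.ChMain
import Groth.Agent.AgPol.K275.AbLoc
import Groth.Agent.AgPol.K302.Sep
import Groth.Agent.AgPol.K399.LevLoc
import Groth.Agent.AgPol.K46.HilbMain
import Groth.Agent.AgPol.K513.PolUniq
import Groth.Agent.AgPol.K513.PolLocusMain
import Groth.Agent.AgPol.K514.ChartNodes
import Groth.Agent.AgPol.K515.FrameMain
import Groth.Agent.AgPol.K515.RankPol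
import Groth.Agent.AgPol.K533.FamCore
import Groth.Agent.AgPol.K540.LawsMain
import Groth.Agent.AgPol.K652.QPMain
import Groth.Agent.AgPol.K817.Closed
import Groth.Agent.AgPol.K272.NormBc
import Groth.Agent.AgPol.K272.Uniq
import Groth.Agent.S11448
import Groth.Agent.S14161

/-!
# The moduli scheme of polarised abelian schemes with level structure: assembly
-/

set_option autoImplicit false
universe u
open CategoryTheory CategoryTheory.Limits AlgebraicGeometry MonoidalCategory CartesianMonoidalCategory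
  MonObj

namespace K117.Final

open K117.Ag Groth.Agent Groth.Agent.Grpsch.PicGrp

theorem stmt14161 : K515.PolFinMain.Stmt14161.{u} :=
  fun S _ A At _ _ _ _ g hA hproj φ hdual L hL hample lam hlam r hr =>
    Groth.Agent.S14161.result S A At g hA hproj φ hdual L hL hample lam hlam r hr

theorem rankStmt : K817.Closed.RankStmt.{u} := by
  intro k _ _ B _ g d hB c hc
  refine ⟨fun M hM hMc => (K515.RankPol.rank_one stmt14161 B g d hB hc M hM hMc).1, fun L hL hLc => ?_⟩
  have h := (K515.RankPol.rank stmt14161 B g d hB hc 3 (by norm_num) L hL hLc).2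
  rw [h]

/-- **S14158 from the remaining inputs**. -/
theorem main {g d n : ℕ} (hg : 1 ≤ g) (hd : 1 ≤ d) (hn : (6 ^ g * d) ^ 2 * Nat.factorial g < n ^ 2)
    (hloc : ∀ m : ℕ, m + 1 = 6 ^ g * d → Node.FrLocal.{u} g d n m)
    (hVA : K817.Closed.VAStmt.{u}) :
    ∃ (M : Over SZ.{u}) (ξ : (AgPol.Agdn SZ.{u} g d n).Fam M),
      ModFun.IsUnivFamily (fun T => IsLocallyNoetherian T.left) (AgPol.Agdn SZ.{u} g d n) M ξ ∧
      RelProj.IsQuasiProjective M.hom ∧
      ∀ (Ω : Type u) [Field Ω] [IsAlgClosed Ω] (t : Spec (CommRingCat.of Ω) ⟶ SZ.{u}),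
        (n : Ω) ≠ 0 → Nonempty (Over.mk t ⟶ M) ∧ ∀ k : Over.mk t ⟶ M,
          (AgPol.Agdn SZ.{u} g d n).ok _ ((AgPol.Agdn SZ.{u} g d n).pull k ξ) := by
  have h6 : 1 ≤ 6 ^ g * d := Nat.one_le_iff_ne_zero.2 (Nat.mul_ne_zero (by positivity) (by omega))
  obtain ⟨m, hm⟩ : ∃ m : ℕ, m + 1 = 6 ^ g * d := ⟨6 ^ g * d - 1, by omega⟩
  have hn2 : 2 ≤ n := by
    by_contra h
    have h1 : n ^ 2 ≤ 1 := by
      have : n ≤ 1 := by omega
      calc n ^ 2 ≤ 1 ^ 2 := Nat.pow_le_pow_left this 2
        _ = 1 := by norm_num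
    have h2 : 1 ≤ (6 ^ g * d) ^ 2 * Nat.factorial g :=
      Nat.mul_pos (pow_pos h6 2) (Nat.factorial_pos g)
    omega
  have hbc : Node.NormBc.{u} g n m := K272.Fr.normBc_main g n m
  have hframe : Node.Frame.{u} g d n m := K515.FrameMain.main stmt14161 hg hm hn
  have hnhd : Node.Nhd.{u} g d n m := K117.Nhd.main stmt14161 hm
  have huniq : Node.Uniq.{u} g d n m := K272.Fr.uniq_main stmt14161 hm
  have hcl : Node.Closed.{u} g d n m := K817.Closed.main hVA rankStmt hm
  have hchart : Node.Chart.{u} g d n m :=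
    K116.ChMain.main hg hd (by omega) hm (K46.AgHilb.hilb m _)
      (K275.AbLoc.main fun S _ X _ k i _ e => Groth.Agent.S11448.result S X k i e)
      K399.LevLoc.levLocus K513.PolLocusMain.main K513.PolUniq.polUniq hcl huniq hbc
      (K514.ChartNodes.hilbNorm stmt14161 hm) (K514.ChartNodes.rankHilb g m)
  exact K117.Ag.Main.s14158_of hg hd hn (K540.Ag.AgLaws.coreLaws hframe hnhd hbc huniq hcl) hbc hnhd (hloc m hm)
    hframe hchart (K302.Sep.main g d n) (K533.FamCore.main g d n) (K652.QPMain.main hg hn2)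
    (K117.NodeNE.main hg hd)

end K117.Final
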