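import Groth.Agent.AgPol.K117.Nodes
import Groth.Agent.Picfga.OverRep
import Mathlib.AlgebraicGeometry.Gluing
import Mathlib.AlgebraicGeometry.Noetherian

/-!
# Gluing fine moduli schemes of open conditions

* `Dat F` : conditions `Q i`, open on the base and covering, with universal families `ξ i` over `M i`;
* `uniq`, `exi`, `Dat.E` : the relation "isomorphic pulled back families" between points of `M i` and `M j`;
* `exists_tt` : the transition maps.
-/

set_option autoImplicit false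
universe u v

open CategoryTheory Limits AlgebraicGeometry

namespace K117.Ag.GlueMod

noncomputable section

/-- Local charts of a moduli problem. -/
structure Dat {S : Scheme.{u}} (F : ModFun.Problem.{v} S) where
  κ : Type u
  Q : κ → ∀ T : Over S, F.Fam T → Prop
  hr : ∀ i (T : Over S) (x y : F.Fam T), LN S T → F.ok T x → F.ok T y → F.r T x y → Q i T x → Q i T y
  hp : ∀ i (T T' : Over S) (k : T' ⟶ T) (x : F.Fam T), LN S T → LN S T' → F.ok T x → Q i T x → Q i T' (F.pull k x)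
  ho : ∀ i (T : Over S) (x : F.Fam T), LN S T → F.ok T x → ∃ U : T.left.Opens, ∀ (T' : Over S) (k : T' ⟶ T),
    LN S T' → (Q i T' (F.pull k x) ↔ Set.range k.left ⊆ U)
  hc : ∀ (T : Over S) (x : F.Fam T), LN S T → F.ok T x → ∀ t : T.left, ∃ (i : κ) (U : T.left.Opens), t ∈ U ∧
    Q i _ (F.pull (resH T U) x)
  M : κ → Over S
  ξ : ∀ i, F.Fam (M i)
  hM : ∀ i, LN S (M i)
  hu : ∀ i, ModFun.IsUnivFamily (LN S) (F.restrict (Q i)) (M i) (ξ i)

variable {S : Scheme.{u}} {F : ModFun.Problem.{v} S} (L : Laws F) (D : Dat F)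

lemma ln_resO {T : Over S} (hT : LN S T) (U : T.left.Opens) : LN S (resO T U) := by
  have : IsLocallyNoetherian T.left := hT
  exact isLocallyNoetherian_of_isOpenImmersion U.ι

lemma ln_of_open {T W : Over S} (hT : LN S T) (j : W ⟶ T) [IsOpenImmersion j.left] : LN S W := by
  have : IsLocallyNoetherian T.left := hT
  exact isLocallyNoetherian_of_isOpenImmersion j.left

lemma range_resH (T : Over S) (U : T.left.Opens) : Set.range (resH T U).left = U := U.range_ι

instance mono_of_open {T W : Over S} (j : W ⟶ T) [IsOpenImmersion j.left] : Mono j :=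
  Over.mono_of_mono_left _

/-- Lift through an open immersion over the base. -/
lemma exists_lift_open {T W V : Over S} (j : V ⟶ T) [IsOpenImmersion j.left] (k : W ⟶ T)
    (h : Set.range k.left ⊆ Set.range j.left) : ∃ k' : W ⟶ V, k' ≫ j = k := by
  refine ⟨Over.homMk (IsOpenImmersion.lift j.left k.left h) ?_, ?_⟩
  · rw [← Over.w j, IsOpenImmersion.lift_fac_assoc, Over.w]
  · ext1
    exact IsOpenImmersion.lift_fac _ _ _

lemma exists_lift_resH {T W : Over S} (U : T.left.Opens) (k : W ⟶ T) (h : Set.range k.left ⊆ U) :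
    ∃ k' : W ⟶ resO T U, k' ≫ resH T U = k := by
  have : IsOpenImmersion (resH T U).left := inferInstanceAs (IsOpenImmersion U.ι)
  exact exists_lift_open (resH T U) k (by rwa [range_resH])

lemma resL_resH {T : Over S} {V U : T.left.Opens} (h : V ≤ U) : resL T h ≫ resH T U = resH T V := by
  ext1
  exact T.left.homOfLE_ι h

namespace Dat

lemma okM (i : D.κ) : F.ok (D.M i) (D.ξ i) := (D.hu i).1.1

lemma qM (i : D.κ) : D.Q i (D.M i) (D.ξ i) := (D.hu i).1.2

include L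

lemma ok_pull (i : D.κ) {T : Over S} (hT : LN S T) (a : T ⟶ D.M i) : F.ok T (F.pull a (D.ξ i)) :=
  L.pull_ok a _ (D.hM i) hT (D.okM i)

omit L in
lemma q_pull (i : D.κ) {T : Over S} (hT : LN S T) (a : T ⟶ D.M i) : D.Q i T (F.pull a (D.ξ i)) :=
  D.hp i _ _ a _ (D.hM i) hT (D.okM i) (D.qM i)

lemma uniq (i : D.κ) {T : Over S} (hT : LN S T) (a b : T ⟶ D.M i)
    (h : F.r T (F.pull a (D.ξ i)) (F.pull b (D.ξ i))) : a = b :=
  ((D.hu i).2 T (F.pull b (D.ξ i)) hT ⟨D.ok_pull L i hT b, D.q_pull i hT b⟩).unique h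
    (L.refl _ _ (D.ok_pull L i hT b))

omit L in
lemma exi (i : D.κ) {T : Over S} (hT : LN S T) (x : F.Fam T) (hx : F.ok T x) (hq : D.Q i T x) :
    ∃ a : T ⟶ D.M i, F.r T (F.pull a (D.ξ i)) x :=
  ((D.hu i).2 T x hT ⟨hx, hq⟩).exists

omit L in
/-- Isomorphic pulled back families. -/
def E (i j : D.κ) {T : Over S} (a : T ⟶ D.M i) (b : T ⟶ D.M j) : Prop :=
  F.r T (F.pull a (D.ξ i)) (F.pull b (D.ξ j))

lemma E.refl (i : D.κ) {T : Over S} (hT : LN S T) (a : T ⟶ D.M i) : D.E i i a a :=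
  L.refl _ _ (D.ok_pull L i hT a)

lemma E.symm {i j : D.κ} {T : Over S} (hT : LN S T) {a : T ⟶ D.M i} {b : T ⟶ D.M j} (h : D.E i j a b) :
    D.E j i b a := L.symm _ _ _ (D.ok_pull L i hT a) (D.ok_pull L j hT b) h

lemma E.trans {i j k : D.κ} {T : Over S} (hT : LN S T) {a : T ⟶ D.M i} {b : T ⟶ D.M j} {c : T ⟶ D.M k}
    (h : D.E i j a b) (h' : D.E j k b c) : D.E i k a c :=
  L.trans _ _ _ _ (D.ok_pull L i hT a) (D.ok_pull L j hT b) (D.ok_pull L k hT c) h h'

lemma r_comp (i : D.κ) {T W : Over S} (hT : LN S T) (hW : LN S W) (l : W ⟶ T) (a : T ⟶ D.M i) :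
    F.r W (F.pull (l ≫ a) (D.ξ i)) (F.pull l (F.pull a (D.ξ i))) :=
  L.pull_comp a l _ (D.hM i) hT hW (D.okM i)

lemma E.comp {i j : D.κ} {T W : Over S} (hT : LN S T) (hW : LN S W) (l : W ⟶ T) {a : T ⟶ D.M i} {b : T ⟶ D.M j}
    (h : D.E i j a b) : D.E i j (l ≫ a) (l ≫ b) := by
  have oa := D.ok_pull L i hT a
  have ob := D.ok_pull L j hT b
  refine L.trans _ _ _ _ (D.ok_pull L i hW _) (L.pull_ok l _ hT hW oa) (D.ok_pull L j hW _)
    (D.r_comp L i hT hW l a) ?_
  exact L.trans _ _ _ _ (L.pull_ok l _ hT hW oa) (L.pull_ok l _ hT hW ob) (D.ok_pull L j hW _)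
    (L.pull_r l _ _ hT hW oa ob h)
    (L.symm _ _ _ (D.ok_pull L j hW _) (L.pull_ok l _ hT hW ob) (D.r_comp L j hT hW l b))

lemma E.eq {i : D.κ} {T : Over S} (hT : LN S T) {a b : T ⟶ D.M i} (h : D.E i i a b) : a = b :=
  D.uniq L i hT a b h

omit L in
/-- The locus of `M i` where `Q j` holds. -/
def U (i j : D.κ) : (D.M i).left.Opens := (D.ho j (D.M i) (D.ξ i) (D.hM i) (D.okM i)).choose

omit L in
lemma mem_iff (i j : D.κ) {T : Over S} (hT : LN S T) (k : T ⟶ D.M i) :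
    D.Q j T (F.pull k (D.ξ i)) ↔ Set.range k.left ⊆ D.U i j :=
  (D.ho j (D.M i) (D.ξ i) (D.hM i) (D.okM i)).choose_spec T k hT

omit L in
/-- The overlaps. -/
abbrev V (i j : D.κ) : Over S := resO (D.M i) (D.U i j)

omit L in
/-- The inclusions of the overlaps. -/
abbrev f (i j : D.κ) : D.V i j ⟶ D.M i := resH (D.M i) (D.U i j)

omit L in
lemma lnV (i j : D.κ) : LN S (D.V i j) := ln_resO (D.hM i) _

omit L in
instance (i j : D.κ) : IsOpenImmersion (D.f i j).left := inferInstanceAs (IsOpenImmersion (D.U i j).ι)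

lemma range_of_E {i j : D.κ} {T : Over S} (hT : LN S T) {a : T ⟶ D.M i} {b : T ⟶ D.M j} (h : D.E i j a b) :
    Set.range a.left ⊆ D.U i j := by
  rw [← D.mem_iff i j hT]
  exact D.hr j T _ _ hT (D.ok_pull L j hT b) (D.ok_pull L i hT a)
    (L.symm _ _ _ (D.ok_pull L i hT a) (D.ok_pull L j hT b) h) (D.q_pull j hT b)

lemma exists_fac_of_E {i j : D.κ} {T : Over S} (hT : LN S T) {a : T ⟶ D.M i} {b : T ⟶ D.M j} (h : D.E i j a b) :
    ∃ a' : T ⟶ D.V i j, a' ≫ D.f i j = a :=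
  exists_lift_resH _ _ (D.range_of_E L hT h)

lemma exists_tt (i j : D.κ) : ∃ t : D.V i j ⟶ D.V j i, D.E i j (D.f i j) (t ≫ D.f j i) := by
  have hq : D.Q j _ (F.pull (D.f i j) (D.ξ i)) := by
    rw [D.mem_iff i j (D.lnV i j), range_resH]
  obtain ⟨a, ha⟩ := D.exi j (D.lnV i j) _ (D.ok_pull L i (D.lnV i j) (D.f i j)) hq
  have hE : D.E j i a (D.f i j) := ha
  obtain ⟨t, ht⟩ := D.exists_fac_of_E L (D.lnV i j) hE
  refine ⟨t, ?_⟩
  rw [ht]
  exact E.symm L D (D.lnV i j) hE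

/-- The transition maps. -/
def tt (i j : D.κ) : D.V i j ⟶ D.V j i := (D.exists_tt L i j).choose

lemma E_tt (i j : D.κ) : D.E i j (D.f i j) (D.tt L i j ≫ D.f j i) := (D.exists_tt L i j).choose_spec

/-- Two points are related iff they are glued. -/
lemma exists_of_E {i j : D.κ} {T : Over S} (hT : LN S T) {a : T ⟶ D.M i} {b : T ⟶ D.M j} (h : D.E i j a b) :
    ∃ a' : T ⟶ D.V i j, a' ≫ D.f i j = a ∧ a' ≫ D.tt L i j ≫ D.f j i = b := by
  obtain ⟨a', ha'⟩ := D.exists_fac_of_E L hT h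
  refine ⟨a', ha', ?_⟩
  apply E.eq L D hT
  refine E.trans L D hT ?_ h
  have h1 := E.comp L D (D.lnV i j) hT a' (D.E_tt L i j)
  rw [ha'] at h1
  exact E.symm L D hT h1

lemma E_of_fac {i j : D.κ} {T : Over S} (hT : LN S T) (a' : T ⟶ D.V i j) :
    D.E i j (a' ≫ D.f i j) (a' ≫ D.tt L i j ≫ D.f j i) :=
  E.comp L D (D.lnV i j) hT a' (D.E_tt L i j)

lemma tt_self (i : D.κ) : D.tt L i i = 𝟙 _ := by
  rw [← cancel_mono (D.f i i), Category.id_comp]
  exact (E.eq L D (D.lnV i i) (D.E_tt L i i)).symm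

end Dat

end

end K117.Ag.GlueMod
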