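import Groth.Agent.AgPol.K117.GlueMod

/-!
# Gluing fine moduli schemes of open conditions: the glue data
-/

set_option autoImplicit false
universe u v

open CategoryTheory Limits AlgebraicGeometry

namespace K117.Ag.GlueMod

noncomputable section

variable {S : Scheme.{u}} {F : ModFun.Problem.{v} S} (L : Laws F) (D : Dat F)

namespace Dat

/-- Triple overlaps. -/
abbrev P (i j k : D.κ) : Over S := Over.mk (pullback.fst (D.f i j).left (D.f i k).left ≫ (D.V i j).hom)

/-- First projection. -/
abbrev P1 (i j k : D.κ) : D.P i j k ⟶ D.V i j := Over.homMk (pullback.fst (D.f i j).left (D.f i k).left) rfl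

/-- Second projection. -/
abbrev P2 (i j k : D.κ) : D.P i j k ⟶ D.V i k :=
  Over.homMk (pullback.snd (D.f i j).left (D.f i k).left) (by
    change pullback.snd _ _ ≫ (D.V i k).hom = pullback.fst _ _ ≫ (D.V i j).hom
    rw [← Over.w (D.f i j), ← Over.w (D.f i k), pullback.condition_assoc])

lemma P_cond (i j k : D.κ) : D.P1 i j k ≫ D.f i j = D.P2 i j k ≫ D.f i k := by
  ext1
  exact pullback.condition

lemma lnP (i j k : D.κ) : LN S (D.P i j k) := by
  have : IsOpenImmersion (D.P1 i j k).left :=
    inferInstanceAs (IsOpenImmersion (pullback.fst (D.f i j).left (D.f i k).left))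
  exact ln_of_open (D.lnV i j) (D.P1 i j k)

instance mono_P (i j k : D.κ) : Mono (pullback.fst (D.f i j).left (D.f i k).left ≫ (D.f i j).left) := by
  have : Mono (D.f i j).left := inferInstance
  exact mono_comp _ _

include L

lemma exists_b (i j k : D.κ) : ∃ b : D.P i j k ⟶ D.V j k, b ≫ D.f j k = D.P1 i j k ≫ D.tt L i j ≫ D.f j i := by
  have h1 : D.E i j (D.P1 i j k ≫ D.f i j) (D.P1 i j k ≫ D.tt L i j ≫ D.f j i) := D.E_of_fac L (D.lnP i j k) _
  have h2 : D.E i k (D.P2 i j k ≫ D.f i k) (D.P2 i j k ≫ D.tt L i k ≫ D.f k i) := D.E_of_fac L (D.lnP i j k) _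
  rw [← P_cond] at h2
  have h3 := E.trans L D (D.lnP i j k) (E.symm L D (D.lnP i j k) h1) h2
  exact D.exists_fac_of_E L (D.lnP i j k) h3

/-- The map on triple overlaps. -/
def tp (i j k : D.κ) : D.P i j k ⟶ D.P j k i :=
  Over.homMk (pullback.lift (D.exists_b L i j k).choose.left (pullback.fst _ _ ≫ (D.tt L i j).left) (by
    have h := congrArg CommaMorphism.left (D.exists_b L i j k).choose_spec
    exact h.trans (Category.assoc _ _ _).symm)) (by
    change pullback.lift _ _ _ ≫ pullback.fst _ _ ≫ (D.V j k).hom = _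
    rw [pullback.lift_fst_assoc]
    exact Over.w _)

lemma tp_snd (i j k : D.κ) : D.tp L i j k ≫ D.P2 j k i = D.P1 i j k ≫ D.tt L i j := by
  ext1
  exact pullback.lift_snd _ _ _

lemma E_tp (i j k : D.κ) : D.E i j (D.P1 i j k ≫ D.f i j) (D.tp L i j k ≫ D.P1 j k i ≫ D.f j k) := by
  have h : D.tp L i j k ≫ D.P1 j k i ≫ D.f j k = D.P1 i j k ≫ D.tt L i j ≫ D.f j i := by
    rw [P_cond, ← Category.assoc, tp_snd, Category.assoc]
  rw [h]
  exact D.E_of_fac L (D.lnP i j k) _

lemma cocycle (i j k : D.κ) : D.tp L i j k ≫ D.tp L j k i ≫ D.tp L k i j = 𝟙 _ := by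
  have h1 := D.E_tp L i j k
  have h2 := E.comp L D (D.lnP j k i) (D.lnP i j k) (D.tp L i j k) (D.E_tp L j k i)
  have h3 := E.comp L D (D.lnP k i j) (D.lnP i j k) (D.tp L i j k ≫ D.tp L j k i) (D.E_tp L k i j)
  have h4 := E.trans L D (D.lnP i j k) h1 h2
  rw [← Category.assoc (D.tp L i j k)] at h4
  have h5 := E.eq L D (D.lnP i j k) (E.trans L D (D.lnP i j k) h4 h3)
  have hm : Mono (D.P1 i j k ≫ D.f i j).left := D.mono_P i j k
  have hm' : Mono (D.P1 i j k ≫ D.f i j) := Over.mono_of_mono_left _
  rw [← cancel_mono (D.P1 i j k ≫ D.f i j), Category.id_comp]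
  simp only [Category.assoc] at h5 ⊢
  exact h5.symm

/-- The glue data. -/
def glueData : Scheme.GlueData.{u} where
  J := D.κ
  U i := (D.M i).left
  V ij := (D.V ij.1 ij.2).left
  f i j := (D.f i j).left
  f_id i := by
    have h : Set.range (D.f i i).left = Set.univ := by
      rw [range_resH]
      have := (D.mem_iff i i (D.hM i) (𝟙 _)).1 (D.hp i _ _ (𝟙 _) _ (D.hM i) (D.hM i) (D.okM i) (D.qM i))
      rw [← Set.univ_subset_iff]
      refine subset_trans ?_ this
      intro x _
      exact ⟨x, rfl⟩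
    have : Surjective (D.f i i).left := ⟨Set.range_eq_univ.1 h⟩
    have : Epi (D.f i i).left.base := by
      rw [TopCat.epi_iff_surjective]
      exact Set.range_eq_univ.1 h
    exact IsOpenImmersion.isIso _
  t i j := (D.tt L i j).left
  t_id i := by rw [tt_self]; rfl
  t' i j k := (D.tp L i j k).left
  t_fac i j k := congrArg CommaMorphism.left (D.tp_snd L i j k)
  cocycle i j k := congrArg CommaMorphism.left (D.cocycle L i j k)
  f_open i j := inferInstance

/-- The glued scheme. -/
def hN : (D.glueData L).glued ⟶ S :=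
  Multicoequalizer.desc _ _ (fun i => (D.M i).hom) (by
    rintro ⟨i, j⟩
    change (D.f i j).left ≫ (D.M i).hom = ((D.tt L i j).left ≫ (D.f j i).left) ≫ (D.M j).hom
    rw [Category.assoc, Over.w, Over.w, Over.w])

/-- The glued scheme over the base. -/
def N : Over S := Over.mk (D.hN L)

/-- The charts. -/
def jj (i : D.κ) : D.M i ⟶ D.N L := Over.homMk ((D.glueData L).ι i) (by
  exact Multicoequalizer.π_desc _ _ _ _ _)

instance (i : D.κ) : IsOpenImmersion (D.jj L i).left := Scheme.GlueData.ι_isOpenImmersion _ _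

lemma jj_cond (i j : D.κ) : D.f i j ≫ D.jj L i = D.tt L i j ≫ D.f j i ≫ D.jj L j := by
  ext1
  exact ((D.glueData L).glue_condition i j).symm

lemma jj_surj (y : (D.N L).left) : ∃ (i : D.κ) (x : (D.M i).left), (D.jj L i).left x = y :=
  (D.glueData L).ι_jointly_surjective y

lemma lnN : LN S (D.N L) := by
  have h : ∀ y : (D.N L).left, ∃ (i : D.κ), y ∈ Set.range (D.jj L i).left := fun y => by
    obtain ⟨i, x, rfl⟩ := D.jj_surj L y
    exact ⟨i, x, rfl⟩
  have : ∀ i, IsLocallyNoetherian ((D.glueData L).openCover.X i) := fun i => D.hM i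
  exact (isLocallyNoetherian_iff_openCover (D.glueData L).openCover).2 this

/-- Two points of the charts have the same image iff the families are isomorphic. -/
theorem comp_jj_iff {i j : D.κ} {T : Over S} (hT : LN S T) (a : T ⟶ D.M i) (b : T ⟶ D.M j) :
    a ≫ D.jj L i = b ≫ D.jj L j ↔ D.E i j a b := by
  constructor
  · intro h
    have hl := (D.glueData L).vPullbackConeIsLimit i j
    have hc : a.left ≫ (D.glueData L).ι i = b.left ≫ (D.glueData L).ι j := congrArg CommaMorphism.left h
    let l := PullbackCone.IsLimit.lift hl a.left b.left hc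
    have h1 : l ≫ (D.f i j).left = a.left := PullbackCone.IsLimit.lift_fst hl a.left b.left hc
    have h2 : l ≫ (D.tt L i j).left ≫ (D.f j i).left = b.left :=
      PullbackCone.IsLimit.lift_snd hl a.left b.left hc
    have e : l ≫ ((D.f i j).left ≫ (D.M i).hom) = T.hom :=
      (Category.assoc _ _ _).symm.trans ((congrArg (· ≫ (D.M i).hom) h1).trans (Over.w a))
    let l' : T ⟶ D.V i j := Over.homMk l ((congrArg (l ≫ ·) (Over.w (D.f i j))).symm.trans e)
    have e1 : l' ≫ D.f i j = a := by ext1; exact h1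
    have e2 : l' ≫ D.tt L i j ≫ D.f j i = b := by ext1; exact h2
    rw [← e1, ← e2]
    exact D.E_of_fac L hT l'
  · intro h
    obtain ⟨a', rfl, rfl⟩ := D.exists_of_E L hT h
    rw [Category.assoc, jj_cond, Category.assoc, Category.assoc]

end Dat

end

end K117.Ag.GlueMod
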