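import Groth.Agent.AgPol.K117.GlueMod2

/-!
# Gluing fine moduli schemes of open conditions: the universal family

`main : Node.Glue`.
-/

set_option autoImplicit false
universe u v

open CategoryTheory Limits AlgebraicGeometry
open Groth.Agent.Picfga.OverRep

namespace K117.Ag.GlueMod

noncomputable section

/-- The covering of `T` by opens. -/
def covOf {S : Scheme.{u}} (T : Over S) {κ : Type u} (U : κ → T.left.Opens) (hU : ∀ t : T.left, ∃ i, t ∈ U i) : Cov T where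
  ι := κ
  V i := resO T (U i)
  j i := resH T (U i)
  isOpen i := inferInstanceAs (IsOpenImmersion (U i).ι)
  covers t := by
    obtain ⟨i, hi⟩ := hU t
    exact ⟨i, ⟨t, hi⟩, rfl⟩

/-- Points of two opens with the same image come from the intersection. -/
lemma exists_inf {S : Scheme.{u}} {T W : Over S} {U V : T.left.Opens} (a : W ⟶ resO T U) (b : W ⟶ resO T V)
    (h : a ≫ resH T U = b ≫ resH T V) :
    ∃ c : W ⟶ resO T (U ⊓ V), c ≫ resL T inf_le_left = a ∧ c ≫ resL T inf_le_right = b := by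
  have h1 : Set.range (a ≫ resH T U).left ⊆ (U ⊓ V : T.left.Opens) := by
    rintro _ ⟨w, rfl⟩
    refine ⟨?_, ?_⟩
    · have := range_resH T U
      exact this ▸ ⟨a.left w, rfl⟩
    · rw [h]
      have := range_resH T V
      exact this ▸ ⟨b.left w, rfl⟩
  obtain ⟨c, hc⟩ := exists_lift_resH (U ⊓ V) _ h1
  have i1 : IsOpenImmersion (resH T U).left := inferInstanceAs (IsOpenImmersion U.ι)
  have i2 : IsOpenImmersion (resH T V).left := inferInstanceAs (IsOpenImmersion V.ι)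
  refine ⟨c, ?_, ?_⟩
  · rw [← cancel_mono (resH T U), Category.assoc, resL_resH, hc]
  · rw [← cancel_mono (resH T V), Category.assoc, resL_resH, hc, h]

variable {S : Scheme.{u}} {F : ModFun.Problem.{v} S} (L : Laws F) (D : Dat F)

namespace Dat

/-- The open subscheme of the glued scheme given by a chart. -/
def O (i : D.κ) : (D.N L).left.Opens := (D.jj L i).left.opensRange

include L

lemma exists_s (i : D.κ) : ∃ s : resO (D.N L) (D.O L i) ⟶ D.M i, s ≫ D.jj L i = resH _ _ :=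
  exists_lift_open _ _ (by rw [range_resH]; exact subset_rfl)

/-- The chart on its image. -/
def s (i : D.κ) : resO (D.N L) (D.O L i) ⟶ D.M i := (D.exists_s L i).choose

lemma s_jj (i : D.κ) : D.s L i ≫ D.jj L i = resH _ _ := (D.exists_s L i).choose_spec

lemma exists_s' (i : D.κ) : ∃ s' : D.M i ⟶ resO (D.N L) (D.O L i), s' ≫ resH _ _ = D.jj L i ∧
    s' ≫ D.s L i = 𝟙 _ := by
  obtain ⟨s', hs'⟩ := exists_lift_resH (D.O L i) (D.jj L i) subset_rfl
  refine ⟨s', hs', ?_⟩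
  rw [← cancel_mono (D.jj L i), Category.assoc, s_jj, hs', Category.id_comp]

lemma exists_ζ : ∃ ζ : F.Fam (D.N L), F.ok _ ζ ∧
    ∀ i, F.r _ (F.pull (resH _ (D.O L i)) ζ) (F.pull (D.s L i) (D.ξ i)) := by
  refine L.glue (D.N L) (D.lnN L) (fun i => D.O L i) ?_ (fun i => F.pull (D.s L i) (D.ξ i))
    (fun i => D.ok_pull L i (ln_resO (D.lnN L) _) _) fun i j => ?_
  · rw [eq_top_iff]
    intro y _
    obtain ⟨i, x, rfl⟩ := D.jj_surj L y
    exact TopologicalSpace.Opens.mem_iSup.2 ⟨i, ⟨x, rfl⟩⟩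
  · have l1 := ln_resO (D.lnN L) (D.O L i)
    have l2 := ln_resO (D.lnN L) (D.O L j)
    have l3 := ln_resO (D.lnN L) (D.O L i ⊓ D.O L j)
    have h : D.E i j (resL (D.N L) inf_le_left ≫ D.s L i) (resL (D.N L) inf_le_right ≫ D.s L j) := by
      rw [← D.comp_jj_iff L l3, Category.assoc, Category.assoc, s_jj, s_jj, resL_resH, resL_resH]
    have o1 := D.ok_pull L i l1 (D.s L i)
    have o2 := D.ok_pull L j l2 (D.s L j)
    refine L.trans _ _ _ _ (L.pull_ok _ _ l1 l3 o1) (D.ok_pull L i l3 _) (L.pull_ok _ _ l2 l3 o2)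
      (L.symm _ _ _ (D.ok_pull L i l3 _) (L.pull_ok _ _ l1 l3 o1) (D.r_comp L i l1 l3 _ _)) ?_
    exact L.trans _ _ _ _ (D.ok_pull L i l3 _) (D.ok_pull L j l3 _) (L.pull_ok _ _ l2 l3 o2) h
      (D.r_comp L j l2 l3 _ _)

variable {D} {ζ : F.Fam (D.N L)} (hζ : F.ok _ ζ)
  (hζ' : ∀ i, F.r _ (F.pull (resH _ (D.O L i)) ζ) (F.pull (D.s L i) (D.ξ i)))

include hζ hζ'

lemma r_jj (i : D.κ) {T : Over S} (hT : LN S T) (k : T ⟶ D.M i) :
    F.r T (F.pull (k ≫ D.jj L i) ζ) (F.pull k (D.ξ i)) := by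
  obtain ⟨s', h1, h2⟩ := D.exists_s' L i
  have lN := D.lnN L
  have l1 := ln_resO lN (D.O L i)
  have e : k ≫ D.jj L i = (k ≫ s') ≫ resH _ (D.O L i) := by rw [Category.assoc, h1]
  have e' : k = (k ≫ s') ≫ D.s L i := by rw [Category.assoc, h2, Category.comp_id]
  have oN : F.ok _ (F.pull (resH _ (D.O L i)) ζ) := L.pull_ok _ _ lN l1 hζ
  have os := D.ok_pull L i l1 (D.s L i)
  rw [e]
  refine L.trans _ _ _ _ (L.pull_ok _ _ lN hT hζ) (L.pull_ok _ _ l1 hT oN) (D.ok_pull L i hT k)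
    (L.pull_comp _ _ _ lN l1 hT hζ) ?_
  refine L.trans _ _ _ _ (L.pull_ok _ _ l1 hT oN) (L.pull_ok _ _ l1 hT os) (D.ok_pull L i hT k)
    (L.pull_r (k ≫ s') _ _ l1 hT oN os (hζ' i)) ?_
  have h3 := L.symm _ _ _ (D.ok_pull L i hT _) (L.pull_ok _ _ l1 hT os) (D.r_comp L i l1 hT (k ≫ s') (D.s L i))
  rwa [← e'] at h3

/-- A point of the glued scheme at which the family is in `Q i` is in the chart `i`. -/
lemma range_subset (i : D.κ) {T : Over S} (hT : LN S T) (g : T ⟶ D.N L) (hq : D.Q i T (F.pull g ζ)) :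
    Set.range g.left ⊆ D.O L i := by
  have lN := D.lnN L
  obtain ⟨W, hW⟩ := D.ho i (D.N L) ζ lN hζ
  refine ((hW T g hT).1 hq).trans ?_
  intro y hy
  obtain ⟨j, m, rfl⟩ := D.jj_surj L y
  let V : (D.M j).left.Opens := (D.jj L j).left ⁻¹ᵁ W
  have lV : LN S (resO (D.M j) V) := ln_resO (D.hM j) _
  have h1 : D.Q i _ (F.pull (resH (D.M j) V ≫ D.jj L j) ζ) := by
    rw [hW _ _ lV]
    rintro _ ⟨x, rfl⟩
    exact x.2
  have h2 : D.Q i _ (F.pull (resH (D.M j) V) (D.ξ j)) :=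
    D.hr i _ _ _ lV (L.pull_ok _ _ lN lV hζ) (D.ok_pull L j lV _) (r_jj L hζ hζ' j lV _) h1
  rw [D.mem_iff j i lV, range_resH] at h2
  have hm : m ∈ Set.range (D.f j i).left := by
    rw [range_resH]
    exact h2 hy
  obtain ⟨m', rfl⟩ := hm
  have h3 := congrArg CommaMorphism.left (D.jj_cond L j i)
  refine ⟨((D.tt L j i).left ≫ (D.f i j).left) m', ?_⟩
  exact congr($(h3.symm) m')

/-- The glued family is universal. -/
theorem isUniv : ModFun.IsUnivFamily (LN S) F (D.N L) ζ := by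
  have lN := D.lnN L
  refine ⟨hζ, fun T x hT hx => ?_⟩
  have ln : ∀ U : T.left.Opens, LN S (resO T U) := ln_resO hT
  choose U hU using fun i => D.ho i T x hT hx
  have cov : ∀ t : T.left, ∃ i, t ∈ U i := fun t => by
    obtain ⟨i, V, ht, hV⟩ := D.hc T x hT hx t
    have h := (hU i _ _ (ln V)).1 hV
    rw [range_resH] at h
    exact ⟨i, h ht⟩
  have qU : ∀ i, D.Q i _ (F.pull (resH T (U i)) x) := fun i => by
    rw [hU i _ _ (ln _), range_resH]
  have okU : ∀ V : T.left.Opens, F.ok _ (F.pull (resH T V) x) := fun V => L.pull_ok _ _ hT (ln _) hx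
  choose a ha using fun i => D.exi i (ln (U i)) _ (okU (U i)) (qU i)
  have oa : ∀ i, F.ok _ (F.pull (a i) (D.ξ i)) := fun i => D.ok_pull L i (ln _) _
  -- glue
  have compat : ∀ i j, D.E i j (resL T (inf_le_left : U i ⊓ U j ≤ U i) ≫ a i) (resL T inf_le_right ≫ a j) := by
    intro i j
    have l := ln (U i ⊓ U j)
    have h1 : ∀ (i : D.κ) (V : T.left.Opens) (h : V ≤ U i),
        F.r _ (F.pull (resL T h ≫ a i) (D.ξ i)) (F.pull (resH T V) x) := by
      intro i V h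
      refine L.trans _ _ _ _ (D.ok_pull L i (ln V) _) (L.pull_ok _ _ (ln _) (ln V) (oa i)) (okU V)
        (D.r_comp L i (ln _) (ln V) _ _) ?_
      refine L.trans _ _ _ _ (L.pull_ok _ _ (ln _) (ln V) (oa i)) (L.pull_ok _ _ (ln _) (ln V) (okU (U i))) (okU V)
        (L.pull_r _ _ _ (ln _) (ln V) (oa i) (okU _) (ha i)) ?_
      have h2 := L.pull_comp (resH T (U i)) (resL T h) x hT (ln _) (ln V) hx
      rw [resL_resH] at h2
      exact L.symm _ _ _ (okU V) (L.pull_ok _ _ (ln _) (ln V) (okU (U i))) h2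
    exact L.trans _ _ _ _ (D.ok_pull L i l _) (okU _) (D.ok_pull L j l _) (h1 i _ inf_le_left)
      (L.symm _ _ _ (D.ok_pull L j l _) (okU _) (h1 j _ inf_le_right))
  obtain ⟨g, hg⟩ := glue_hom T (D.N L) (covOf T U cov) (fun i => a i ≫ D.jj L i) (by
    intro i j W b c hbc
    obtain ⟨d, rfl, rfl⟩ := exists_inf b c hbc
    have h := (D.comp_jj_iff L (ln (U i ⊓ U j)) _ _).2 (compat i j)
    rw [Category.assoc, Category.assoc] at h
    exact (Category.assoc d _ _).trans ((congrArg (d ≫ ·) h).trans (Category.assoc d _ _).symm))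
  have hg' : ∀ i, resH T (U i) ≫ g = a i ≫ D.jj L i := hg
  have og : F.ok _ (F.pull g ζ) := L.pull_ok _ _ lN hT hζ
  refine ⟨g, ?_, fun g' hg2 => ?_⟩
  · refine L.sep T _ _ hT og hx fun t => ?_
    obtain ⟨i, hi⟩ := cov t
    refine ⟨U i, hi, ?_⟩
    have h1 := L.pull_comp g (resH T (U i)) ζ lN hT (ln _) hζ
    have o1 : F.ok _ (F.pull (resH T (U i)) (F.pull g ζ)) := L.pull_ok _ _ hT (ln _) og
    have o2 : F.ok _ (F.pull (resH T (U i) ≫ g) ζ) := L.pull_ok _ _ lN (ln _) hζ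
    refine L.trans _ _ _ _ o1 o2 (okU _) (L.symm _ _ _ o2 o1 h1) ?_
    rw [hg'] at o2 ⊢
    exact L.trans _ _ _ _ o2 (oa i) (okU _) (r_jj L hζ hζ' i (ln _) (a i)) (ha i)
  · have og' : F.ok _ (F.pull g' ζ) := L.pull_ok _ _ lN hT hζ
    have hg3 : F.r T (F.pull g' ζ) x := hg2
    suffices key : ∀ i : D.κ, resH T (U i) ≫ g' = resH T (U i) ≫ g from
      hom_ext_cover T (D.N L) (covOf T U cov) _ _ key
    intro i
    have h1 := L.pull_comp g' (resH T (U i)) ζ lN hT (ln _) hζ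
    have o1 : F.ok _ (F.pull (resH T (U i)) (F.pull g' ζ)) := L.pull_ok _ _ hT (ln _) og'
    have o2 : F.ok _ (F.pull (resH T (U i) ≫ g') ζ) := L.pull_ok _ _ lN (ln _) hζ
    have h2 : F.r _ (F.pull (resH T (U i) ≫ g') ζ) (F.pull (resH T (U i)) x) :=
      L.trans _ _ _ _ o2 o1 (okU _) h1 (L.pull_r _ _ _ hT (ln _) og' hx hg3)
    have h3 : D.Q i _ (F.pull (resH T (U i) ≫ g') ζ) :=
      D.hr i _ _ _ (ln _) (okU _) o2 (L.symm _ _ _ o2 (okU _) h2) (qU i)
    have h4 := range_subset L hζ hζ' i (ln _) _ h3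
    obtain ⟨b, hb⟩ := exists_lift_open (D.jj L i) (resH T (U i) ≫ g') h4
    rw [hg', ← hb]
    congr 1
    apply D.uniq L i (ln _)
    rw [← hb] at h2 o2
    refine L.trans _ _ _ _ (D.ok_pull L i (ln _) b) o2 (oa i)
      (L.symm _ _ _ o2 (D.ok_pull L i (ln _) b) (r_jj L hζ hζ' i (ln _) b)) ?_
    exact L.trans _ _ _ _ o2 (okU _) (oa i) h2 (L.symm _ _ _ (oa i) (okU _) (ha i))

end Dat

/-- **GLUE** -/
theorem main : Node.Glue.{u} := by
  intro S F L κ Q hr hp ho hc M ξ hM hu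
  let D : Dat F := ⟨κ, Q, hr, hp, ho, hc, M, ξ, hM, hu⟩
  obtain ⟨ζ, h1, h2⟩ := D.exists_ζ L
  refine ⟨D.N L, ζ, D.jj L, D.lnN L, Dat.isUniv L h1 h2, fun i => inferInstance, fun y => ?_⟩
  obtain ⟨i, x, hx⟩ := D.jj_surj L y
  exact ⟨i, x, hx⟩

end

end K117.Ag.GlueMod
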