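import Groth.Agent.AgPol.K540.LawNodes
import Groth.Agent.AgPol.K399.LevPts
import Groth.Agent.AgPol.K116.ChGrp

/-!
# Being an abelian scheme and being a level structure are local on the base
-/

set_option autoImplicit false
universe u

open CategoryTheory Limits MonoidalCategory CartesianMonoidalCategory AlgebraicGeometry
open scoped MonObj

namespace K117.LawLocal

open K117.Ag

/-- A property of morphisms local on the target, in terms of fibre products. -/
theorem of_pullback (P : MorphismProperty Scheme.{u}) [IsZariskiLocalAtTarget P] {X T : Scheme.{u}} (f : X ⟶ T)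
    {κ : Type u} (U : κ → T.Opens) (hU : (⨆ i, U i) = ⊤) (h : ∀ i, P (pullback.snd f (U i).ι)) : P f := by
  refine IsZariskiLocalAtTarget.of_iSup_eq_top U hU fun i => ?_
  have h1 : f ∣_ U i = (pullbackRestrictIsoRestrict f (U i)).inv ≫ pullback.snd f (U i).ι := rfl
  rw [h1, MorphismProperty.cancel_left_of_respectsIso P]
  exact h i

theorem geomConnected_local : IsZariskiLocalAtTarget @GeometricallyConnected.{u} := by
  rw [GeometricallyConnected.eq_geometrically]
  infer_instance

/-- **ABLOCAL** -/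
theorem abLocal : K540.Ag.Node.AbLocal.{u} := by
  intro T A _ g κ U hU h
  have := geomConnected_local.{u}
  have : IsZariskiLocalAtTarget @Smooth.{u} := HasRingHomProperty.instIsZariskiLocalAtTarget _
  have hs : Smooth A.hom := of_pullback @Smooth.{u} A.hom U hU fun i => (h i).smooth
  have hlft : LocallyOfFiniteType A.hom := inferInstance
  refine ⟨hs, of_pullback @IsProper A.hom U hU fun i => (h i).proper,
    of_pullback @GeometricallyConnected A.hom U hU fun i => (h i).geomConnected, fun s => ?_⟩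
  obtain ⟨i, hi⟩ := TopologicalSpace.Opens.mem_iSup.1 (hU.symm ▸ trivial : s ∈ ⨆ i, U i)
  have h1 := (h i).fibreDim ⟨s, hi⟩
  have h2 := Groth.Agent.Flat2G.ProperDim.topologicalKrullDim_fiber_baseChange A.hom (Red.bc (U i).ι A).hom
    (pullback.fst A.hom (U i).ι) (U i).ι (IsPullback.of_hasPullback A.hom (U i).ι) ⟨s, hi⟩
  exact h2.symm.trans h1

theorem sec_ext {T : Scheme.{u}} {A : Over T} {κ : Type u} (U : κ → T.Opens) (hU : (⨆ i, U i) = ⊤)
    {a b : 𝟙_ (Over T) ⟶ A} (h : ∀ i, secBc (U i).ι a = secBc (U i).ι b) : a = b := by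
  ext1
  refine Scheme.Cover.hom_ext (T.openCoverOfIsOpenCover U hU) _ _ fun i => ?_
  have h1 := congrArg (fun s : 𝟙_ (Over (U i).toScheme) ⟶ Red.bc (U i).ι A => s.left ≫ pullback.fst A.hom (U i).ι) (h i)
  have h2 : ∀ s : 𝟙_ (Over T) ⟶ A, (secBc (U i).ι s).left ≫ pullback.fst A.hom (U i).ι = (U i).ι ≫ s.left :=
    fun s => pullback.lift_fst _ _ _
  exact (h2 a).symm.trans (h1.trans (h2 b))

/-- **LEVLOCAL** -/
theorem levLocal : K540.Ag.Node.LevLocal.{u} := by
  intro T A _ g n κ U hU σ h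
  refine ⟨fun j => sec_ext U hU fun i => ?_, fun Ω _ _ t => ?_⟩
  · have h1 := (h i).1 j
    rw [K116.ChGrp.secBc_one]
    exact (map_pow (K116.ChGrp.secBcHom (U i).ι) (σ j) n).trans h1
  · obtain ⟨i, hi⟩ := TopologicalSpace.Opens.mem_iSup.1
      (hU.symm ▸ trivial : t (IsLocalRing.closedPoint Ω) ∈ ⨆ i, U i)
    have hr : Set.range t ⊆ Set.range (U i).ι := by
      rintro _ ⟨x, rfl⟩
      rw [Subsingleton.elim x (IsLocalRing.closedPoint Ω)]
      rw [Scheme.Opens.range_ι]
      exact hi
    obtain ⟨t', rfl⟩ : ∃ t' : Spec (CommRingCat.of Ω) ⟶ (U i).toScheme, t' ≫ (U i).ι = t :=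
      ⟨IsOpenImmersion.lift (U i).ι t hr, IsOpenImmersion.lift_fac _ _ _⟩
    exact ((K399.LevPts.isLevelStr_iff A σ (U i).ι).1 (h i)).2 Ω t'

/-- **LEVISO** -/
theorem levIso : K540.Ag.Node.LevIso.{u} := by
  intro T A B _ _ g n e _ σ hσ
  have : IsMonHom e.symm.hom := K116.ChGrp.isMonHom_inv e
  exact K116.ChGrp.isLevelStr_of_iso (e := e.symm) (fun i => by
    change (σ i ≫ e.hom) ≫ e.inv = σ i
    rw [Category.assoc, e.hom_inv_id, Category.comp_id]) hσ

end K117.LawLocal
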