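import Groth.Agent.AgPol.K117.GlueMod3
import Groth.Agent.S2334
import Mathlib.FieldTheory.IsAlgClosed.AlgebraicClosure

/-!
# Assembly of S14158 from the nodes
-/

set_option autoImplicit false
universe u v

open CategoryTheory Limits AlgebraicGeometry MonoidalCategory CartesianMonoidalCategory
open scoped MonObj

namespace K117.Ag.Main

open Groth.Agent.Grpsch.PicGrp K117.Ag.GlueMod

noncomputable section

section frames

variable {g d n m : ℕ} {S : Scheme.{u}} (hL : Laws (CoreP S g d n)) (hbc : Node.NormBc.{u} g n m)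

include hbc in
lemma framed_bc {T T' : Over S} (k : T' ⟶ T) (x : Core T g) {I : Fin (m + 2) → (Fin (2 * g) → Fin n)}
    (h : Framed I T x) : Framed I T' (x.pull k) := by
  obtain ⟨r, hr⟩ := h
  exact ⟨_, hbc.bc k x I r hr⟩

include hbc in
lemma framed_r {T : Over S} {x y : Core T g} {I : Fin (m + 2) → (Fin (2 * g) → Fin n)}
    (h : Core.r T x y) (hy : Framed I T y) : Framed I T x := by
  obtain ⟨r, hr⟩ := hy
  obtain ⟨e, he1, he2, he3⟩ := h
  exact ⟨_, hbc.iso x y I r e he1 he2 he3 hr⟩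

/-- A geometric point over a point. -/
lemma exists_geom (X : Scheme.{u}) (x : X) : ∃ (Ω : Type u) (_ : Field Ω) (_ : IsAlgClosed Ω)
    (t : Spec (CommRingCat.of Ω) ⟶ X), Set.range t = {x} := by
  refine ⟨AlgebraicClosure (X.residueField x), inferInstance, inferInstance,
    Spec.map (CommRingCat.ofHom (algebraMap (X.residueField x) (AlgebraicClosure (X.residueField x)))) ≫
      X.fromSpecResidueField x, ?_⟩
  have : Nonempty (Spec (CommRingCat.of (AlgebraicClosure (X.residueField x)))) := inferInstance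
  refine Set.eq_singleton_iff_nonempty_unique_mem.2 ⟨Set.range_nonempty _, ?_⟩
  rintro _ ⟨z, rfl⟩
  have h : X.fromSpecResidueField x
      ((Spec.map (CommRingCat.ofHom (algebraMap (X.residueField x) (AlgebraicClosure (X.residueField x))))) z) ∈
      Set.range (X.fromSpecResidueField x) := ⟨_, rfl⟩
  rw [Scheme.range_fromSpecResidueField] at h
  exact h

lemma ln_spec {Ω : Type u} [Field Ω] (t : Spec (CommRingCat.of Ω) ⟶ S) : LN S (Over.mk t) :=
  inferInstanceAs (IsLocallyNoetherian (Spec (CommRingCat.of Ω)))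

variable (hnhd : Node.Nhd.{u} g d n m) (hloc : Node.FrLocal.{u} g d n m)

include hL hbc hnhd in
lemma exists_nhd_of_geom {T T' : Over S} (k : T' ⟶ T) (x : Core T g) (hT : LN S T) (hT' : LN S T')
    (hx : Core.ok g d n T x) {I : Fin (m + 2) → (Fin (2 * g) → Fin n)} (h : Framed I T' (x.pull k)) (t' : T'.left) :
    ∃ V : T.left.Opens, k.left t' ∈ V ∧ Framed I _ (x.pull (resH T V)) := by
  obtain ⟨Ω, _, _, t, ht⟩ := exists_geom T'.left t'
  let l : Over.mk ((t ≫ k.left) ≫ T.hom) ⟶ T' := Over.homMk t (by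
    change t ≫ T'.hom = (t ≫ k.left) ≫ T.hom
    rw [Category.assoc, Over.w])
  have h1 : Framed I _ ((x.pull k).pull l) := framed_bc hbc l _ h
  have e : l ≫ k = (Over.homMk (t ≫ k.left) rfl : Over.mk ((t ≫ k.left) ≫ T.hom) ⟶ T) := by
    ext1
    rfl
  have h2 := hL.pull_comp k l x hT hT' (ln_spec _) hx
  have h3 : Framed I _ (x.pull (l ≫ k)) := framed_r hbc h2 h1
  rw [e] at h3
  obtain ⟨U, hU, hU'⟩ := hnhd T x hT hx I Ω (t ≫ k.left) h3
  refine ⟨U, hU ?_, hU'⟩
  have h4 : t' ∈ Set.range t := ht ▸ Set.mem_singleton _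
  obtain ⟨z, hz⟩ := h4
  exact ⟨z, by rw [← hz]; rfl⟩

include hL hbc hnhd hloc in
lemma exists_locus (I : Fin (m + 2) → (Fin (2 * g) → Fin n)) (T : Over S) (x : Core T g) (hT : LN S T)
    (hx : Core.ok g d n T x) : ∃ U : T.left.Opens, ∀ (T' : Over S) (k : T' ⟶ T), LN S T' →
      (Framed I T' (x.pull k) ↔ Set.range k.left ⊆ U) := by
  refine ⟨⨆ V : {V : T.left.Opens // Framed I _ (x.pull (resH T V))}, V.1, fun T' k hT' => ⟨fun h => ?_, fun h => ?_⟩⟩
  · rintro _ ⟨t', rfl⟩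
    obtain ⟨V, hV, hV'⟩ := exists_nhd_of_geom hL hbc hnhd k x hT hT' hx h t'
    exact TopologicalSpace.Opens.mem_iSup.2 ⟨⟨V, hV'⟩, hV⟩
  · have ok' := hL.pull_ok k x hT hT' hx
    refine hloc T' (x.pull k) hT' ok' I fun t' => ?_
    obtain ⟨⟨V, hV⟩, ht⟩ := TopologicalSpace.Opens.mem_iSup.1 (h ⟨t', rfl⟩)
    let W : T'.left.Opens := k.left ⁻¹ᵁ V
    refine ⟨W, ht, ?_⟩
    have lV := ln_resO hT V
    have lW := ln_resO hT' W
    obtain ⟨k', hk'⟩ := exists_lift_resH V (resH T' W ≫ k) (by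
      rintro _ ⟨z, rfl⟩
      exact z.2)
    have h1 := framed_bc hbc k' _ hV
    have h2 := hL.pull_comp (resH T V) k' x hT lV lW hx
    rw [hk'] at h2
    have h3 : Framed I _ (x.pull (resH T' W ≫ k)) := framed_r hbc h2 h1
    have h4 := hL.pull_comp k (resH T' W) x hT hT' lW hx
    exact framed_r hbc (hL.symm _ _ _ (hL.pull_ok _ _ hT lW hx) (hL.pull_ok _ _ hT' lW ok') h4) h3

include hL hnhd in
lemma exists_cover (hframe : Node.Frame.{u} g d n m) (T : Over S) (x : Core T g) (hT : LN S T)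
    (hx : Core.ok g d n T x) (t : T.left) : ∃ (I : Fin (m + 2) → (Fin (2 * g) → Fin n)) (U : T.left.Opens), t ∈ U ∧
      Framed I _ (x.pull (resH T U)) := by
  obtain ⟨Ω, _, _, s, hs⟩ := exists_geom T.left t
  obtain ⟨I, hI⟩ := hframe Ω (s ≫ T.hom) _
    (hL.pull_ok (Over.homMk s rfl : Over.mk (s ≫ T.hom) ⟶ T) x hT (ln_spec _) hx)
  obtain ⟨U, hU, hU'⟩ := hnhd T x hT hx I Ω s hI
  exact ⟨I, U, hU (hs ▸ Set.mem_singleton _), hU'⟩

end frames

/-- The fine moduli scheme of core families. -/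
theorem exists_core_moduli {g d n m : ℕ} (hLaws : Node.CoreLaws.{u} g d n) (hbc : Node.NormBc.{u} g n m)
    (hnhd : Node.Nhd.{u} g d n m) (hloc : Node.FrLocal.{u} g d n m) (hframe : Node.Frame.{u} g d n m)
    (hchart : Node.Chart.{u} g d n m) :
    ∃ (M : Over SZ.{u}) (ξ : Core M g), IsNoetherian M.left ∧ LocallyOfFiniteType M.hom ∧
      ModFun.IsUnivFamily (LN _) (CoreP SZ.{u} g d n) M ξ := by
  have hL := hLaws SZ.{u}
  choose M ξ hM1 hM2 hM3 using hchart
  let κ : Type u := ULift.{u} (Fin (m + 2) → (Fin (2 * g) → Fin n))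
  obtain ⟨N, ζ, j, hN, hu, hj, hs⟩ := GlueMod.main.{u} SZ.{u} (CoreP SZ.{u} g d n) hL (κ := κ)
    (fun I T x => Framed I.down T x)
    (fun I T x y hT hx hy hr h => framed_r hbc (hL.symm _ _ _ hx hy hr) h)
    (fun I T T' k x hT hT' hx h => framed_bc hbc k x h)
    (fun I T x hT hx => exists_locus hL hbc hnhd hloc I.down T x hT hx)
    (fun T x hT hx t => by
      obtain ⟨I, U, h1, h2⟩ := exists_cover hL hnhd hframe T x hT hx t
      exact ⟨⟨I⟩, U, h1, h2⟩)
    (fun I => M I.down) (fun I => ξ I.down) (fun I => by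
      have := hM1 I.down
      exact (inferInstance : IsLocallyNoetherian (M I.down).left)) (fun I => hM3 I.down)
  have : Finite κ := inferInstance
  have hln : IsLocallyNoetherian N.left := hN
  refine ⟨N, ζ, ?_, ?_, hu⟩
  · have hc : CompactSpace N.left := by
      refine ⟨?_⟩
      have h1 : (Set.univ : Set N.left) = ⋃ i : κ, Set.range (j i).left := by
        ext y
        simpa using hs y
      rw [h1]
      refine isCompact_iUnion fun i => ?_
      have := hM1 i.down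
      have : CompactSpace (M i.down).left := inferInstance
      exact isCompact_range (j i).left.continuous
    exact { }
  · let 𝒰 : Scheme.OpenCover.{u} N.left :=
      Scheme.openCoverOfIsOpenCover _ (fun i : κ => (j i).left.opensRange) (by
        rw [TopologicalSpace.IsOpenCover, eq_top_iff]
        intro y _
        obtain ⟨i, hi⟩ := hs y
        exact TopologicalSpace.Opens.mem_iSup.2 ⟨i, hi⟩)
    have hz : IsZariskiLocalAtSource (@LocallyOfFiniteType : MorphismProperty Scheme.{u}) :=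
      HasRingHomProperty.instIsZariskiLocalAtSource (P := @LocallyOfFiniteType)
    rw [IsZariskiLocalAtSource.iff_of_openCover (P := @LocallyOfFiniteType) 𝒰]
    suffices key : ∀ i : κ, LocallyOfFiniteType ((j i).left.opensRange.ι ≫ N.hom) from key
    intro i
    have e : ((j i).left.opensRange.ι ≫ N.hom : _ ⟶ SZ.{u}) =
        (j i).left.isoOpensRange.inv ≫ (M i.down).hom := by
      rw [← Over.w (j i), ← Category.assoc]
      congr 1
      rw [Iso.eq_inv_comp]
      exact (j i).left.isoOpensRange_hom_ι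
    rw [e]
    have := hM2 i.down
    infer_instance

instance : IsLocallyNoetherian SZ.{u} := by
  have : IsNoetherianRing (ULift.{u} ℤ) := isNoetherianRing_of_ringEquiv ℤ ULift.ringEquiv.symm
  have : IsNoetherianRing (CommRingCat.of (ULift.{u} ℤ)) := this
  infer_instance

/-- The moduli scheme of core families is separated. -/
theorem isSeparated_of_univ {g d n : ℕ} (hL : Laws (CoreP SZ.{u} g d n)) (hsep : Node.SepDVR.{u} g d n)
    (M : Over SZ.{u}) (ξ : Core M g) (hM : IsNoetherian M.left) (hft : LocallyOfFiniteType M.hom)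
    (hu : ModFun.IsUnivFamily (LN _) (CoreP SZ.{u} g d n) M ξ) : IsSeparated M.hom := by
  have hln : LN _ M := (inferInstance : IsLocallyNoetherian M.left)
  rw [Groth.Agent.S2334.result]
  intro A _ _ _ a b h1 h2
  let a' : Over.mk (a ≫ M.hom) ⟶ M := Over.homMk a rfl
  let b' : Over.mk (a ≫ M.hom) ⟶ M := Over.homMk b h1.symm
  have lA : LN SZ.{u} (Over.mk (a ≫ M.hom)) := inferInstanceAs (IsLocallyNoetherian (Spec (CommRingCat.of A)))
  have lK : LN SZ.{u} (Over.mk (Spec.map (CommRingCat.ofHom (algebraMap A (FractionRing A))) ≫ a ≫ M.hom)) :=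
    inferInstanceAs (IsLocallyNoetherian (Spec (CommRingCat.of (FractionRing A))))
  have oa : Core.ok g d n _ (ξ.pull a') := hL.pull_ok a' ξ hln lA hu.1
  have ob : Core.ok g d n _ (ξ.pull b') := hL.pull_ok b' ξ hln lA hu.1
  have e : genH A (a ≫ M.hom) ≫ a' = genH A (a ≫ M.hom) ≫ b' := by
    ext1
    exact h2
  have o3 : Core.ok g d n _ ((ξ.pull a').pull (genH A (a ≫ M.hom))) := hL.pull_ok _ _ lA lK oa
  have o4 : Core.ok g d n _ ((ξ.pull b').pull (genH A (a ≫ M.hom))) := hL.pull_ok _ _ lA lK ob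
  have o5 : Core.ok g d n _ (ξ.pull (genH A (a ≫ M.hom) ≫ a')) := hL.pull_ok _ _ hln lK hu.1
  have h3 := hL.pull_comp a' (genH A (a ≫ M.hom)) ξ hln lA lK hu.1
  have h4 := hL.pull_comp b' (genH A (a ≫ M.hom)) ξ hln lA lK hu.1
  rw [← e] at h4
  have h5 : Core.r _ ((ξ.pull a').pull (genH A (a ≫ M.hom))) ((ξ.pull b').pull (genH A (a ≫ M.hom))) :=
    hL.trans _ _ _ _ o3 o5 o4 (hL.symm _ _ _ o5 o3 h3) h4
  have h6 := hsep A (a ≫ M.hom) _ _ oa ob h5
  have h7 : a' = b' := (hu.2 _ (ξ.pull b') lA ob).unique h6 (hL.refl _ _ ob)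
  exact congrArg CommaMorphism.left h7

/-- Uniqueness of points with isomorphic families. -/
lemma eq_of_r {g d n : ℕ} (hL : Laws (CoreP SZ.{u} g d n)) {M : Over SZ.{u}} {ξ : Core M g} (hln : LN _ M)
    (hu : ModFun.IsUnivFamily (LN _) (CoreP SZ.{u} g d n) M ξ) {T : Over SZ.{u}} (hT : LN _ T) (a b : T ⟶ M)
    (h : Core.r _ (ξ.pull a) (ξ.pull b)) : a = b := by
  have ob : Core.ok g d n _ (ξ.pull b) := hL.pull_ok b ξ hln hT hu.1
  exact (hu.2 _ (ξ.pull b) hT ob).unique h (hL.refl _ _ ob)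

/-- The core of a family is unique. -/
lemma isCoreOf_unique {g d n : ℕ} {S : Scheme.{u}} {T : Over S} {x : AgPol.Fam T g} (hx : AgPol.Fam.ok g d n T x)
    {z z' : Core T g} (h : IsCoreOf x z) (h' : IsCoreOf x z') : z = z' := by
  let := x.grp
  let := x.grpt
  obtain ⟨hA, hc, hct, hD, -⟩ := hx
  have := hA.smooth
  have := hA.proper
  have := hA.geomConnected
  have := K814.AbBasic.geometricallyIntegral x.X
  obtain ⟨ξ, h1, h2, h3, rfl⟩ := h
  obtain ⟨ξ', h1', h2', h3', rfl⟩ := h'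
  have e : ξ = ξ' := K732.Dual.cm_inj hD (K732.CubeSec.bijective_XTproj x.X.hom) h1 h1' h2 h2' (h3.trans h3'.symm)
  rw [e]

/-- From core families to families. -/
theorem isUniv_fam {g d n : ℕ} (hL : Laws (CoreP SZ.{u} g d n)) (hFC : Node.FamCore.{u} g d n) {M : Over SZ.{u}}
    {ξ : Core M g} (hln : LN _ M) (hu : ModFun.IsUnivFamily (LN _) (CoreP SZ.{u} g d n) M ξ)
    {x : AgPol.Fam M g} (hx : IsCoreOf x ξ) (hok : AgPol.Fam.ok g d n M x) :
    ModFun.IsUnivFamily (LN _) (AgPol.Agdn SZ.{u} g d n) M x := by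
  have hcok : ∀ (T : Over SZ.{u}) (y : AgPol.Fam T g) (z : Core T g), LN _ T → AgPol.Fam.ok g d n T y →
      IsCoreOf y z → Core.ok g d n T z := fun T y z hT hy hz => by
    obtain ⟨z', hz', hzok⟩ := hFC.exists_core T y hT hy
    rwa [isCoreOf_unique hy hz hz']
  refine ⟨hok, fun T y hT hy => ?_⟩
  obtain ⟨z, hz, hzok⟩ := hFC.exists_core T y hT hy
  have key : ∀ a : T ⟶ M, AgPol.Fam.r T (x.pull a) y ↔ Core.r T (ξ.pull a) z := by
    intro a
    have oa := hFC.pull_ok a x hln hT hok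
    obtain ⟨z', hz', hr⟩ := hFC.pull a x ξ hln hT hok hx
    have o1 : Core.ok g d n T z' := hcok T _ z' hT oa hz'
    have o2 : Core.ok g d n T (ξ.pull a) := hL.pull_ok a ξ hln hT hu.1
    rw [hFC.r_iff T (x.pull a) y z' z hT oa hy hz' hz]
    exact ⟨fun h => hL.trans _ _ _ _ o2 o1 hzok (hL.symm _ _ _ o1 o2 hr) h,
      fun h => hL.trans _ _ _ _ o1 o2 hzok hr h⟩
  obtain ⟨a, ha, hu'⟩ := hu.2 T z hT hzok
  exact ⟨a, (key a).2 ha, fun b hb => hu' b ((key b).1 hb)⟩

/-- **S14158 from the nodes.** -/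
theorem s14158_of {g d n m : ℕ} (_hg : 1 ≤ g) (_hd : 1 ≤ d)
    (_hn : (6 ^ g * d) ^ 2 * Nat.factorial g < n ^ 2)
    (hLaws : Node.CoreLaws.{u} g d n) (hbc : Node.NormBc.{u} g n m)
    (hnhd : Node.Nhd.{u} g d n m) (hloc : Node.FrLocal.{u} g d n m) (hframe : Node.Frame.{u} g d n m)
    (hchart : Node.Chart.{u} g d n m) (hsep : Node.SepDVR.{u} g d n) (hFC : Node.FamCore.{u} g d n)
    (hqp : Node.QP.{u} g d n) (hne : Node.NonEmpty.{u} g d n) :
    ∃ (M : Over SZ.{u}) (ξ : (AgPol.Agdn SZ.{u} g d n).Fam M),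
      ModFun.IsUnivFamily (fun T => IsLocallyNoetherian T.left) (AgPol.Agdn SZ.{u} g d n) M ξ ∧
      RelProj.IsQuasiProjective M.hom ∧
      ∀ (Ω : Type u) [Field Ω] [IsAlgClosed Ω] (t : Spec (CommRingCat.of Ω) ⟶ SZ.{u}),
        (n : Ω) ≠ 0 → Nonempty (Over.mk t ⟶ M) ∧ ∀ k : Over.mk t ⟶ M,
          (AgPol.Agdn SZ.{u} g d n).ok _ ((AgPol.Agdn SZ.{u} g d n).pull k ξ) := by
  have hL := hLaws SZ.{u}
  obtain ⟨M, ξ, hM, hft, hu⟩ := exists_core_moduli hLaws hbc hnhd hloc hframe hchart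
  have hln : LN _ M := (inferInstance : IsLocallyNoetherian M.left)
  have hs := isSeparated_of_univ hL hsep M ξ hM hft hu
  have hq := hqp M ξ hM hft hs hu.1 fun Ω _ _ t a b h => eq_of_r hL hln hu (ln_spec t) a b h
  obtain ⟨x, hx, hok⟩ := hFC.exists_fam M ξ hln hu.1
  have hux := isUniv_fam hL hFC hln hu hx hok
  refine ⟨M, x, hux, hq, fun Ω _ _ t ht => ⟨?_, fun k => hFC.pull_ok k x hln (ln_spec t) hok⟩⟩
  obtain ⟨y, hy⟩ := hne Ω t ht
  obtain ⟨k, -⟩ := hux.2 _ y (ln_spec t) hy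
  exact ⟨k⟩

end

end K117.Ag.Main
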