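import Groth.Agent.AgPol.K272.EvLin
import Groth.Agent.AlgSp.K624.LocSys

/-!
# Extension of a projective frame from a geometric fibre to a neighbourhood: the core
-/

set_option autoImplicit false
universe u

open CategoryTheory CategoryTheory.Limits AlgebraicGeometry Opposite TopologicalSpace

namespace K117.Nhd

open K117.Ag Groth.Agent.Fdesc.LocGen K390.PnSec K272.Fr
open Groth.Agent.Grpsch.PicGrp hiding ev

/-- Standard points in terms of values. -/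
theorem isStd_of_val {X T : Scheme.{u}} {m : ℕ} {L : X.Modules} {r : X ⟶ PZ.{u} m} {σ : Fin (m + 1) → Γ(L, ⊤)}
    (hr : GivenBy r L σ) (x : T ⟶ X) (k : Fin (m + 2)) {e : Γ((Scheme.Modules.pullback x).obj L, ⊤)}
    (he : IsGen e) {u : Γ(T, ⊤)} (hu : IsUnit u)
    (h : ∀ i, pullTop x (σ i) = (u * stdv Γ(T, ⊤) m k i) • e) : IsStd k (x ≫ r) := by
  refine (isPt_comp_iff hr x _).2 ⟨u • e, he.unit_smul hu, fun i => ?_⟩
  rw [h i, smul_smul, mul_comm]

/-- Values after base change. -/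
theorem exists_val_bc {X B X' B' : Scheme.{u}} {κ : Type*} {L : X.Modules} {σ : κ → Γ(L, ⊤)} {x : B ⟶ X}
    {e : Γ((Scheme.Modules.pullback x).obj L, ⊤)} (he : IsGen e) {v : κ → Γ(B, ⊤)}
    (h : ∀ i, pullTop x (σ i) = v i • e) (f : X' ⟶ X) (α : B' ⟶ B) (x' : B' ⟶ X') (w : x' ≫ f = α ≫ x) :
    ∃ e' : Γ((Scheme.Modules.pullback x').obj ((Scheme.Modules.pullback f).obj L), ⊤), IsGen e' ∧
      ∀ i, pullTop x' (pullTop f (σ i)) = α.appTop (v i) • e' := by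
  obtain ⟨θ, hθ⟩ := exists_theta w.symm L
  refine ⟨θ.hom.app ⊤ (pullTop α e), (he.pullTop α).app θ.hom, fun i => ?_⟩
  rw [← hθ (σ i), h i]
  have h1 : pullTop α (v i • e) = α.appTop (v i) • pullTop α e := pullSec_smul α (v i) e
  rw [h1]
  exact Scheme.Modules.Hom.app_smul θ.hom _ _

theorem isUnit_appTop {B B' : Scheme.{u}} (α : B' ⟶ B) {a : Γ(B, ⊤)} (h : Set.range α ⊆ B.basicOpen a) :
    IsUnit (α.appTop a) := by
  apply K624.LocSys.isUnit_of_basicOpen_eq_top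
  have h1 : B'.basicOpen (α.appTop a) = α ⁻¹ᵁ (B.basicOpen a) := (Scheme.preimage_basicOpen_top α a).symm
  rw [h1, eq_top_iff]
  intro y _
  exact h ⟨y, rfl⟩

theorem range_subset_basicOpen {B B' : Scheme.{u}} (α : B' ⟶ B) {a : Γ(B, ⊤)} (h : IsUnit (α.appTop a)) :
    Set.range α ⊆ B.basicOpen a := by
  rintro _ ⟨y, rfl⟩
  have h1 : B'.basicOpen (α.appTop a) = α ⁻¹ᵁ (B.basicOpen a) := (Scheme.preimage_basicOpen_top α a).symm
  have h2 : y ∈ B'.basicOpen (α.appTop a) := by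
    rw [Scheme.basicOpen_of_isUnit _ h]
    trivial
  rw [h1] at h2
  exact h2

/-- **The core**: sections with standard values at the points, generating on a geometric fibre, define a morphism
over a neighbourhood. -/
theorem core {B X : Scheme.{u}} {m : ℕ} (π : X ⟶ B) [IsProper π] (L : X.Modules) (hL : PicF.IsInvertible L)
    (σ : Fin (m + 1) → Γ(L, ⊤)) (x : Fin (m + 2) → (B ⟶ X))
    (e : ∀ k, Γ((Scheme.Modules.pullback (x k)).obj L, ⊤)) (he : ∀ k, IsGen (e k)) (u : Fin (m + 2) → Γ(B, ⊤))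
    (h : ∀ k i, pullTop (x k) (σ i) = (u k * stdv Γ(B, ⊤) m k i) • e k) {Ω : Type u} [Field Ω]
    (t : Spec (CommRingCat.of Ω) ⟶ B) (hu : ∀ k, IsUnit (t.appTop (u k))) {Y : Scheme.{u}} (p : Y ⟶ X)
    (q : Y ⟶ Spec (CommRingCat.of Ω)) (sq : IsPullback p q π t)
    (hgen : ⨆ i, CohB1.genLocus _ (homOf (pullTop p (σ i))) = ⊤) :
    ∃ V : B.Opens, Set.range t ⊆ V ∧ ∀ {X' B' : Scheme.{u}} (f : X' ⟶ X) (q' : X' ⟶ B') (α : B' ⟶ B),
      f ≫ π = q' ≫ α → Set.range α ⊆ V → ∀ x' : Fin (m + 2) → (B' ⟶ X'), (∀ k, x' k ≫ f = α ≫ x k) →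
        ∃ r : X' ⟶ PZ.{u} m, pull r (o1 m) = pull f (mk L hL) ∧ ∀ k, IsStd k (x' k ≫ r) := by
  let G : X.Opens := ⨆ i, CohB1.genLocus L (homOf (σ i))
  have hclosed : IsClosed (π '' (G : Set X)ᶜ) := π.isClosedMap _ G.isOpen.isClosed_compl
  let V₀ : B.Opens := ⟨(π '' (G : Set X)ᶜ)ᶜ, hclosed.isOpen_compl⟩
  let P : Γ(B, ⊤) := ∏ k, u k
  have hG : ∀ y : Y, p y ∈ G := by
    intro y
    have h1 : y ∈ ⨆ i, CohB1.genLocus _ (homOf (pullTop p (σ i))) := by rw [hgen]; trivial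
    obtain ⟨i, hi⟩ := Opens.mem_iSup.1 h1
    rw [genLocus_pullTop p hL] at hi
    exact Opens.mem_iSup.2 ⟨i, hi⟩
  refine ⟨V₀ ⊓ B.basicOpen P, ?_, ?_⟩
  · rintro _ ⟨s, rfl⟩
    refine ⟨?_, range_subset_basicOpen t ?_ ⟨s, rfl⟩⟩
    · rintro ⟨z, hz, hzs⟩
      obtain ⟨y, hy, -⟩ := Scheme.Pullback.exists_preimage_pullback z s hzs
      refine hz ?_
      have h2 := hG (sq.isoPullback.inv y)
      rw [← Scheme.Hom.comp_apply, sq.isoPullback_inv_fst, hy] at h2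
      exact h2
    · rw [map_prod]
      exact IsUnit.prod_univ_iff.2 hu
  · intro X' B' f q' α hw hα x' hx'
    have hα' : ∀ k, IsUnit (α.appTop (u k)) := by
      have h1 : IsUnit (α.appTop P) := isUnit_appTop α fun z hz => (hα hz).2
      rw [map_prod] at h1
      exact IsUnit.prod_univ_iff.1 h1
    have hcov : ⨆ i, CohB1.genLocus _ (homOf (pullTop f (σ i))) = ⊤ := by
      rw [eq_top_iff]
      intro y _
      have h1 : f y ∈ G := by
        by_contra hy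
        refine (hα ⟨q' y, rfl⟩).1 ⟨f y, hy, ?_⟩
        rw [← Scheme.Hom.comp_apply, hw, Scheme.Hom.comp_apply]
      obtain ⟨i, hi⟩ := Opens.mem_iSup.1 h1
      refine Opens.mem_iSup.2 ⟨i, ?_⟩
      rw [genLocus_pullTop f hL]
      exact hi
    obtain ⟨r, hr⟩ := exists_givenBy' (fun i => pullTop f (σ i)) hcov
    refine ⟨r, ?_, fun k => ?_⟩
    · obtain ⟨τ, -⟩ := hr
      rw [o1, pull_mk, pull_mk]
      exact (mk_eq_iff _ _).2 ⟨τ⟩
    · obtain ⟨e', he', hv⟩ := exists_val_bc (he k) (h k) f α (x' k) (hx' k)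
      refine isStd_of_val hr (x' k) k he' (hα' k) fun i => ?_
      rw [hv i, map_mul]
      congr 2
      exact map_stdv α.appTop.hom m k i

end K117.Nhd
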